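import Mathlib

/-!
Non-degenerate alternating forms: duality, transvections and moving vectors.
-/

set_option autoImplicit false

namespace Cfsg.Agent.Lib.TensorSp

open Module

variable {F Y : Type*} [Field F] [AddCommGroup Y] [Module F Y] [FiniteDimensional F Y]

/-- A non-degenerate alternating form. -/
structure Symp (B : LinearMap.BilinForm F Y) : Prop where
  alt : B.IsAlt
  nd : B.Nondegenerate

variable {B : LinearMap.BilinForm F Y} (hB : Symp B)
include hB

omit [FiniteDimensional F Y] in
theorem Symp.self (x : Y) : B x x = 0 := hB.alt x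

omit [FiniteDimensional F Y] in
theorem Symp.swap (x y : Y) : B y x = -B x y := (hB.alt.neg_eq x y).symm

omit [FiniteDimensional F Y] in
theorem Symp.zero_swap {x y : Y} (h : B x y = 0) : B y x = 0 := by rw [hB.swap, h, neg_zero]

/-- Functionals vanishing on a subspace. -/
theorem Symp.dual (W : Submodule F Y) {x : Y} (hx : x ∉ W) : ∃ d, (∀ w ∈ W, B d w = 0) ∧ B d x = 1 := by
  obtain ⟨φ, hφx, hφ⟩ := Submodule.exists_le_ker_of_notMem hx
  refine ⟨(φ x)⁻¹ • (B.toDual hB.nd).symm φ, fun w hw => ?_, ?_⟩
  · rw [map_smul, LinearMap.smul_apply, LinearMap.BilinForm.apply_toDual_symm_apply, LinearMap.mem_ker.mp (hφ hw),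
      smul_zero]
  · rw [map_smul, LinearMap.smul_apply, LinearMap.BilinForm.apply_toDual_symm_apply, smul_eq_mul, inv_mul_cancel₀ hφx]

theorem Symp.partner {x : Y} (hx : x ≠ 0) : ∃ y, B x y = 1 := by
  obtain ⟨d, -, hd⟩ := hB.dual ⊥ (x := x) (by simpa using hx)
  exact ⟨-d, by rw [map_neg, hB.swap d x, hd]; norm_num⟩

/-- A hyperbolic pair orthogonal to few vectors. -/
theorem Symp.pair_perp (s : Finset Y) (h : 2 * s.card < finrank F Y) :
    ∃ p q, (∀ z ∈ s, B z p = 0 ∧ B z q = 0) ∧ B p q = 1 := by
  classical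
  let T : Y →ₗ[F] (s → F) := LinearMap.pi fun z => B z.1
  have h1 := T.finrank_range_add_finrank_ker
  have h2 : finrank F (LinearMap.range T) ≤ s.card := (Submodule.finrank_le _).trans (by simp)
  by_contra hno
  push Not at hno
  have hiso : LinearMap.ker T ≤ LinearMap.BilinForm.orthogonal B (LinearMap.ker T) := by
    intro q hq p hp
    show B p q = 0
    by_contra hne
    refine hno p ((B p q)⁻¹ • q) (fun z hz => ⟨congrFun (LinearMap.mem_ker.mp hp) ⟨z, hz⟩, ?_⟩)
      (by rw [map_smul, smul_eq_mul, inv_mul_cancel₀ hne])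
    have h3 : B z q = 0 := congrFun (LinearMap.mem_ker.mp hq) ⟨z, hz⟩
    rw [map_smul, h3, smul_zero]
  have h4 := Submodule.finrank_mono hiso
  rw [LinearMap.BilinForm.finrank_orthogonal hB.nd] at h4
  omega

omit hB in
/-- The transvection with centre `z`. -/
def tr (B : LinearMap.BilinForm F Y) (z : Y) (c : F) : Y →ₗ[F] Y := LinearMap.id + (c • B z).smulRight z

omit hB [FiniteDimensional F Y] in
theorem tr_apply (z : Y) (c : F) (u : Y) : tr B z c u = u + (c * B z u) • z := rfl

omit [FiniteDimensional F Y] in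
theorem Symp.tr_isom (z : Y) (c : F) (p q : Y) : B (tr B z c p) (tr B z c q) = B p q := by
  simp only [tr_apply, map_add, map_smul, LinearMap.add_apply, LinearMap.smul_apply, smul_eq_mul, hB.self z,
    hB.swap z p]
  ring

/-- Maps preserving the form are bijective. -/
theorem Symp.surj {h : Y →ₗ[F] Y} (hh : ∀ p q, B (h p) (h q) = B p q) : Function.Surjective h := by
  refine LinearMap.surjective_of_injective ((injective_iff_map_eq_zero h).mpr fun p hp => hB.nd.1 p fun q => ?_)
  rw [← hh, hp, map_zero, LinearMap.zero_apply]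

/-- An additive set invariant under the transvections orthogonal to `u` is the whole of the orthogonal space. -/
theorem Symp.perp_gen {u w₀ : Y} (P : Y → Prop) (hsub : ∀ p q, P p → P q → P (p - q))
    (htr : ∀ (y : Y) (c : F) (w : Y), B u y = 0 → B u w = 0 → P w → P (w + (c * B y w) • y))
    (h0 : P w₀) (hu : B u w₀ = 0) (hw : w₀ ∉ F ∙ u) {y : Y} (hy : B u y = 0) : P y := by
  have key : ∀ y, B u y = 0 → B y w₀ ≠ 0 → P y := fun y hy hne => by
    have h1 := hsub _ _ (htr y (B y w₀)⁻¹ w₀ hy hu h0) h0
    rwa [inv_mul_cancel₀ hne, one_smul, add_sub_cancel_left] at h1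
  by_cases hne : B y w₀ = 0
  · obtain ⟨d, hd, hd1⟩ := hB.dual _ hw
    have hud : B u d = 0 := hB.zero_swap (hd u (Submodule.mem_span_singleton_self u))
    have h1 := hsub _ _ (key (y + d) (by rw [map_add, hy, hud, add_zero])
      (by rw [map_add, LinearMap.add_apply, hne, hd1, zero_add]; exact one_ne_zero))
      (key d hud (by rw [hd1]; exact one_ne_zero))
    rwa [add_sub_cancel_right] at h1
  · exact key y hy hne

end Cfsg.Agent.Lib.TensorSp
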