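import Cfsg.Agent.Lib.TensorSp.Root
import Cfsg.Agent.Lib.ThreeTransp.TensorDich

/-!
The tensor product of two symplectic spaces in coordinates: rows, transvections and orthogonality to pure tensors.
-/

set_option autoImplicit false

namespace Cfsg.Agent.Lib.TensorSp

open Module Matrix QuadraticMap
open Cfsg.Agent.Lib.MaxSub (tv tv_mulVec tv_inv toVec toVec_dot)
open Cfsg.Agent.Lib.ThreeTransp.Tensor
open scoped MatrixGroups Matrix Kronecker

attribute [-simp] QuadraticMap.polarBilin_apply_apply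

variable {a b k : ℕ} {F : Type*} [Field F]

/-- The vector of a functional `B z`. -/
def row (B : LinearMap.BilinForm F (Fin k → F)) (z : Fin k → F) : Fin k → F := toVec (B z)

theorem row_dot (B : LinearMap.BilinForm F (Fin k → F)) (z u : Fin k → F) : row B z ⬝ᵥ u = B z u := toVec_dot _ _

theorem exists_row {B : LinearMap.BilinForm F (Fin k → F)} (hB : Symp B) (ρ : Fin k → F) : ∃ w, row B w = ρ := by
  refine ⟨(B.toDual hB.nd).symm (dotProductBilin F F ρ), dotProduct_eq _ _ fun u => ?_⟩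
  rw [row_dot, LinearMap.BilinForm.apply_toDual_symm_apply]
  rfl

theorem row_ne {B : LinearMap.BilinForm F (Fin k → F)} (hB : Symp B) {z : Fin k → F} (hz : z ≠ 0) : row B z ≠ 0 :=
  fun e => hz (hB.nd.1 z fun u => by rw [← row_dot B z u, e, zero_dotProduct])

/-- The symplectic transvection as a matrix. -/
def sv {B : LinearMap.BilinForm F (Fin k → F)} (hB : Symp B) (v : Fin k → F) (c : F) : GL (Fin k) F :=
  tv v (c • row B v) (by rw [smul_dotProduct, row_dot, hB.self, smul_zero])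

theorem sv_mulVec {B : LinearMap.BilinForm F (Fin k → F)} (hB : Symp B) (v : Fin k → F) (c : F) (x : Fin k → F) :
    (sv hB v c : Matrix (Fin k) (Fin k) F) *ᵥ x = x + (c * B v x) • v := by
  rw [sv, tv_mulVec, smul_dotProduct, row_dot, smul_eq_mul]

theorem sv_inv_mulVec {B : LinearMap.BilinForm F (Fin k → F)} (hB : Symp B) (v : Fin k → F) (c : F) (x : Fin k → F) :
    ((sv hB v c)⁻¹ : GL (Fin k) F).val *ᵥ x = x - (c * B v x) • v := by
  rw [sv, tv_inv, tv_mulVec, neg_dotProduct, smul_dotProduct, row_dot, smul_eq_mul, neg_smul, sub_eq_add_neg]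

theorem sv_isom {B : LinearMap.BilinForm F (Fin k → F)} (hB : Symp B) (v : Fin k → F) (c : F) (p q : Fin k → F) :
    B ((sv hB v c : Matrix (Fin k) (Fin k) F) *ᵥ p) ((sv hB v c : Matrix (Fin k) (Fin k) F) *ᵥ q) = B p q := by
  rw [sv_mulVec, sv_mulVec]
  exact hB.tr_isom v c p q

/-- The effect of conjugation by a transvection on a matrix. -/
theorem delta {B : LinearMap.BilinForm F (Fin k → F)} (hB : Symp B) (v : Fin k → F) (c : F)
    (C : Matrix (Fin k) (Fin k) F) (x : Fin k → F) :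
    ((sv hB v c).val * C * ((sv hB v c)⁻¹ : GL (Fin k) F).val - C) *ᵥ x =
      (c * B v (C *ᵥ x)) • v - (c * B v x) • (C *ᵥ v) - (c * c * B v x * B v (C *ᵥ v)) • v := by
  rw [Matrix.sub_mulVec, ← Matrix.mulVec_mulVec, ← Matrix.mulVec_mulVec, sv_inv_mulVec, sv_mulVec, Matrix.mulVec_sub,
    Matrix.mulVec_smul, map_sub, map_smul, smul_eq_mul]
  module

theorem pure_sub_left (x y : Fin a → F) (u : Fin b → F) : pure (x - y) u = pure x u - pure y u := by
  funext p; simp [Cfsg.Agent.Lib.ThreeTransp.Tensor.pure, sub_mul]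

theorem pure_neg_left (x : Fin a → F) (u : Fin b → F) : pure (-x) u = -pure x u := by
  rw [← neg_one_smul F x, pure_smul_left, neg_one_smul]

/-- The pure tensor as a bilinear map. -/
def pureL : (Fin a → F) →ₗ[F] (Fin b → F) →ₗ[F] (Fin a × Fin b → F) :=
  LinearMap.mk₂ F pure pure_add_left pure_smul_left pure_add_right pure_smul_right

@[simp] theorem pureL_apply (x : Fin a → F) (u : Fin b → F) : pureL x u = pure x u := rfl

/-- The setting. -/
structure Sys (Q : QuadraticForm F (Fin a × Fin b → F)) (B₁ : LinearMap.BilinForm F (Fin a → F))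
    (B₂ : LinearMap.BilinForm F (Fin b → F)) : Prop where
  bl : Bl Q pureL B₁ B₂
  ha : 2 ≤ a
  hab : a < b
  h5 : 5 ≤ b
  hex : 3 ≤ a ∨ 2 < Nat.card F

variable {Q : QuadraticForm F (Fin a × Fin b → F)} {B₁ : LinearMap.BilinForm F (Fin a → F)}
  {B₂ : LinearMap.BilinForm F (Fin b → F)} (S : Sys Q B₁ B₂)
include S

theorem Sys.pol (x y : Fin a → F) (u w : Fin b → F) : polarBilin Q (pure x u) (pure y w) = B₁ x y * B₂ u w :=
  S.bl.pol x y u w

theorem Sys.quad (x : Fin a → F) (u : Fin b → F) : Q (pure x u) = 0 := S.bl.quad x u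

theorem Sys.polar_pure (p : Fin a × Fin b → F) (y : Fin a → F) (w : Fin b → F) :
    polarBilin Q p (pure y w) = -B₁ (ctr (row B₂ w) p) y := by
  refine lin_ext (f := (polarBilin Q).flip (pure y w)) (g := -(B₁.flip y).comp (ctr (row B₂ w))) (fun x u => ?_) p
  simp [ctr_pure, S.pol, row_dot, S.bl.s2.swap u w]
  ring

/-- A displacement orthogonal to `A ⊗ β`'s orthogonal space lies in `A ⊗ β`. -/
theorem Sys.eq_pure {β ξ : Fin b → F} (hξ : ξ ⬝ᵥ β = 1) {q : Fin a × Fin b → F}
    (h : ∀ y w, B₂ β w = 0 → polarBilin Q q (pure y w) = 0) : q = pure (ctr ξ q) β := by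
  refine eq_smul_of_ctr hξ fun ρ hρ => ?_
  obtain ⟨w, rfl⟩ := exists_row S.bl.s2 ρ
  rw [row_dot] at hρ
  refine S.bl.s1.nd.1 _ fun y => ?_
  have := h y w (S.bl.s2.zero_swap hρ)
  rwa [S.polar_pure, neg_eq_zero] at this

omit S in
/-- Linear maps agreeing on `A ⊗ β⊥` agree on its span. -/
theorem lin_perp {W : Type*} [AddCommGroup W] [Module F W] {f g : (Fin a × Fin b → F) →ₗ[F] W} {β β' : Fin b → F}
    (hβ' : B₂ β β' = 1) (h : ∀ x w, B₂ β w = 0 → f (pure x w) = g (pure x w)) {p : Fin a × Fin b → F}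
    (hp : ctr (row B₂ β) p = 0) : f p = g p := by
  let π : (Fin a × Fin b → F) →ₗ[F] (Fin a × Fin b → F) := LinearMap.id - (left β').comp (ctr (row B₂ β))
  have h1 : f.comp π p = g.comp π p := lin_ext (fun x u => by
    have : π (pure x u) = pure x (u - B₂ β u • β') := by
      simp [π, left, ctr_pure, row_dot, pure_sub_right, pure_smul_right, pure_smul_left]
    rw [LinearMap.comp_apply, LinearMap.comp_apply, this]
    exact h _ _ (by rw [map_sub, map_smul, hβ', smul_eq_mul, mul_one, sub_self])) p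
  have hπ : π p = p := by simp [π, left, hp, pure_zero_left]
  rwa [LinearMap.comp_apply, LinearMap.comp_apply, hπ] at h1

/-- `1 ⊗` transvection. -/
noncomputable def TB (v : Fin b → F) (c : F) : GL (Fin a × Fin b) F := kr ((1 : GL (Fin a) F), sv S.bl.s2 v c)

/-- Transvection `⊗ 1`. -/
noncomputable def TA (v : Fin a → F) (c : F) : GL (Fin a × Fin b) F := kr (sv S.bl.s1 v c, (1 : GL (Fin b) F))

theorem Sys.TB_pure (v : Fin b → F) (c : F) (x : Fin a → F) (u : Fin b → F) :
    (TB S v c).val *ᵥ pure x u = pure x (u + (c * B₂ v u) • v) := by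
  rw [TB, kr_pure, Units.val_one, Matrix.one_mulVec, sv_mulVec]

theorem Sys.TA_pure (v : Fin a → F) (c : F) (x : Fin a → F) (u : Fin b → F) :
    (TA S v c).val *ᵥ pure x u = pure (x + (c * B₁ v x) • v) u := by
  rw [TA, kr_pure, Units.val_one, Matrix.one_mulVec, sv_mulVec]

/-- The hypotheses on the group. -/
structure Grp (M : Subgroup (GL (Fin a × Fin b) F)) : Prop where
  iso : M ≤ Cfsg.isometryGroup F ⇑Q
  trA : ∀ v c, TA S v c ∈ M
  trB : ∀ v c, TB S v c ∈ M

variable {M : Subgroup (GL (Fin a × Fin b) F)}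

theorem Grp.tr_B (G : Grp S M) : Tr Q pureL B₂ M := fun z c =>
  ⟨_, G.trB z c, G.iso (G.trB z c), fun x u => by rw [pureL_apply, S.TB_pure]; rfl⟩

theorem Grp.tr_A (G : Grp S M) : Tr Q pureL.flip B₁ M := fun z c =>
  ⟨_, G.trA z c, G.iso (G.trA z c), fun u x => by
    rw [LinearMap.flip_apply, pureL_apply, S.TA_pure]; rfl⟩

end Cfsg.Agent.Lib.TensorSp
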