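import Cfsg.Agent.Lib.TensorSp.Stab

/-!
Without roots on pure lines the group preserves the pure tensors, so lies in the Kronecker group.
-/

set_option autoImplicit false

namespace Cfsg.Agent.Lib.TensorSp

open Module Matrix QuadraticMap
open Cfsg.Agent.Lib.MaxSub (tv exists_functional)
open Cfsg.Agent.Lib.ThreeTransp.Tensor
open scoped MatrixGroups Matrix Kronecker

attribute [-simp] QuadraticMap.polarBilin_apply_apply

variable {a b : ℕ} {F : Type*} [Field F]
variable {Q : QuadraticForm F (Fin a × Fin b → F)} {B₁ : LinearMap.BilinForm F (Fin a → F)}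
  {B₂ : LinearMap.BilinForm F (Fin b → F)} (S : Sys Q B₁ B₂)
include S

variable {M : Subgroup (GL (Fin a × Fin b) F)}

/-- Moving pure tensors by the group. -/
theorem Grp.move (G : Grp S M) {x x' : Fin a → F} {u u' : Fin b → F} (hx : x ≠ 0) (hx' : x' ≠ 0) (hu : u ≠ 0)
    (hu' : u' ≠ 0) : ∃ g ∈ M, g.val *ᵥ pure x u = pure x' u' ∧ g ∈ Cfsg.Geo.kroneckerSubgroup a b F := by
  obtain ⟨h₁, ⟨g₁, hg₁, -, e₁⟩, i₁, hv₁⟩ := exists_move S.bl.s1 (G.tr_A S) hx hx'
  obtain ⟨h₂, ⟨g₂, hg₂, -, e₂⟩, i₂, hv₂⟩ := exists_move S.bl.s2 (G.tr_B S) hu hu'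
  have hA : IsUnit (LinearMap.toMatrix' h₁) := by
    rw [← Matrix.mulVec_surjective_iff_isUnit]
    intro z
    obtain ⟨p, rfl⟩ := S.bl.s1.surj i₁ z
    exact ⟨p, by rw [← Matrix.toLin'_apply, Matrix.toLin'_toMatrix']⟩
  have hB : IsUnit (LinearMap.toMatrix' h₂) := by
    rw [← Matrix.mulVec_surjective_iff_isUnit]
    intro z
    obtain ⟨p, rfl⟩ := S.bl.s2.surj i₂ z
    exact ⟨p, by rw [← Matrix.toLin'_apply, Matrix.toLin'_toMatrix']⟩
  have hk : ∀ y w, (g₂ * g₁).val *ᵥ pure y w = pure (h₁ y) (h₂ w) := fun y w => by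
    rw [mulVec_mul]
    show g₂.val *ᵥ (g₁.val *ᵥ pureL.flip w y) = _
    rw [e₁, LinearMap.flip_apply]
    exact e₂ _ _
  refine ⟨g₂ * g₁, M.mul_mem hg₂ hg₁, by rw [hk, hv₁, hv₂], mem_kronecker.mpr ⟨(hA.unit, hB.unit), ?_⟩⟩
  refine Units.ext (eq_of_pure fun y w => ?_)
  rw [hk, kr_pure, IsUnit.unit_spec, IsUnit.unit_spec, ← Matrix.toLin'_apply, ← Matrix.toLin'_apply,
    Matrix.toLin'_toMatrix', Matrix.toLin'_toMatrix']

variable (G : Good S M) [Finite F]
include G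

/-- A conjugate of a transvection inside the Kronecker group. -/
theorem Good.key_mem {k : GL (Fin a × Fin b) F} (hk : k ∈ M) {β : Fin b → F} (hβ : β ≠ 0)
    (hkN : k * TB S β 1 * k⁻¹ ∈ Cfsg.Geo.kroneckerSubgroup a b F) : k ∈ Cfsg.Geo.kroneckerSubgroup a b F := by
  obtain ⟨gh, hgh⟩ := mem_kronecker.mp hkN
  have hrow : row B₂ β ⬝ᵥ β = 0 := by rw [row_dot, S.bl.s2.self]
  have hT : ∀ q, (TB S β 1).val *ᵥ q = q + pure (ctr (row B₂ β) q) β := fun q => by
    have : TB S β 1 = T (a := a) β ((1 : F) • row B₂ β) (by rw [smul_dotProduct, hrow, smul_zero]) := rfl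
    rw [this, T_mulVec, one_smul]
  have hD : ∀ q, ((kr gh).val - 1) *ᵥ q =
      k.val *ᵥ pure (ctr (row B₂ β) ((k⁻¹ : GL (Fin a × Fin b) F).val *ᵥ q)) β := fun q => by
    rw [hgh, Matrix.sub_mulVec, Matrix.one_mulVec, mulVec_mul, mulVec_mul, hT, Matrix.mulVec_add, mulVec_mulVec_inv,
      add_sub_cancel_left]
  obtain ⟨β', φ', h', hβ', -, he⟩ := eq_T (show 1 ≤ a by have := S.ha; omega) S.hab S.h5 gh
    (fun e => by
      rw [hgh, conj_eq_one_iff] at e
      obtain ⟨w, hw⟩ := S.bl.s2.partner hβ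
      have h1 := hT (pure (Pi.single (⟨0, by have := S.ha; omega⟩ : Fin a) (1 : F)) w)
      rw [e, Units.val_one, Matrix.one_mulVec, left_eq_add, ctr_pure, row_dot, hw, one_smul] at h1
      exact pure_ne_zero (by simp) hβ h1)
    (fun q => by rw [hD q, hD, mulVec_inv_mulVec, ctr_pure, hrow, zero_smul, pure_zero_left, Matrix.mulVec_zero])
    (by
      refine (Submodule.finrank_mono (show _ ≤ LinearMap.range ((Matrix.mulVecLin k.val).comp (left β)) by
        rintro _ ⟨q, rfl⟩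
        exact ⟨_, (hD q).symm⟩)).trans ?_
      exact (LinearMap.finrank_range_le _).trans (Module.finrank_fin_fun F).le)
  have e : k * TB S β 1 * k⁻¹ = T β' φ' h' := hgh.symm.trans he
  let e₀ : Fin a → F := Pi.single ⟨0, by have := S.ha; omega⟩ 1
  obtain ⟨g, hg, hgv, hgN⟩ := Grp.move S G.toGrp (x := e₀) (x' := e₀) (by simp [e₀]) (by simp [e₀]) hβ' hβ
  obtain ⟨gg, hgg⟩ := mem_kronecker.mp hgN
  suffices h1 : g * k ∈ Cfsg.Geo.kroneckerSubgroup a b F by
    have := Subgroup.mul_mem _ (Subgroup.inv_mem _ hgN) h1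
    rwa [inv_mul_cancel_left] at this
  refine G.mem_of_stab S (M.mul_mem hg hk) hβ fun x => ?_
  obtain ⟨w, hw⟩ := S.bl.s2.partner hβ
  have e1 : k * TB S β 1 = T β' φ' h' * k := by rw [← e]; group
  have e2 := congrArg (fun N : GL (Fin a × Fin b) F => N.val *ᵥ pure x w) e1
  simp only [mulVec_mul, hT, ctr_pure, row_dot, hw, one_smul, Matrix.mulVec_add] at e2
  rw [T_mulVec] at e2
  rw [← hgg, kr_pure] at hgv
  obtain ⟨c, hc⟩ : ∃ c : F, gg.2.val *ᵥ β' = c • β := by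
    obtain ⟨η, hη⟩ := exists_dot_one (b := a) (β := gg.1.val *ᵥ e₀) (fun e' => by
      rw [e', pure_zero_left] at hgv
      exact pure_ne_zero (by simp [e₀]) hβ hgv.symm)
    have h3 := congrArg (ctl η) hgv
    rw [ctl_pure, ctl_pure, hη, one_smul] at h3
    exact ⟨_, h3⟩
  refine ⟨c • (gg.1.val *ᵥ ctr φ' (k.val *ᵥ pure x w)), ?_⟩
  rw [mulVec_mul, add_left_cancel e2, ← hgg, kr_pure, hc, pure_smul_right, pure_smul_left]

set_option maxHeartbeats 800000 in
/-- Pure tensors go to pure tensors. -/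
theorem Good.pure_to_pure {g : GL (Fin a × Fin b) F} (hg : g ∈ M) (x : Fin a → F) (u : Fin b → F) :
    ∃ y w, g.val *ᵥ pure x u = pure y w := by
  classical
  obtain ⟨p, hchar⟩ := CharP.exists F
  haveI := hchar
  haveI hpf : Fact p.Prime := ⟨CharP.char_is_prime F p⟩
  set N := Cfsg.Geo.kroneckerSubgroup a b F with hN
  -- a Sylow subgroup of the stabiliser of a pure tensor
  let i₀ : Fin a := ⟨0, by have := S.ha; omega⟩
  let j₀ : Fin b := ⟨0, by have := S.h5; omega⟩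
  set β₀ : Fin b → F := Pi.single j₀ 1 with hβ₀
  have hβ₀0 : β₀ ≠ 0 := by simp [β₀]
  set v : Fin a × Fin b → F := pure (Pi.single i₀ 1) β₀ with hv
  set t := TB S β₀ 1 with ht
  have htM : t ∈ M := G.trB _ _
  let Mv : Subgroup (GL (Fin a × Fin b) F) :=
    { carrier := {g | g ∈ M ∧ g.val *ᵥ v = v}
      one_mem' := ⟨M.one_mem, by simp⟩
      mul_mem' := fun {g g'} hg hg' => ⟨M.mul_mem hg.1 hg'.1, by rw [mulVec_mul, hg'.2, hg.2]⟩
      inv_mem' := fun {g} hg => ⟨M.inv_mem hg.1, by conv_lhs => rw [← hg.2, mulVec_inv_mulVec]⟩ }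
  have hrow : ∀ β, row B₂ β ⬝ᵥ β = 0 := fun β => by rw [row_dot, S.bl.s2.self]
  have hT : ∀ β q, (TB S β 1).val *ᵥ q = q + pure (ctr (row B₂ β) q) β := fun β q => by
    have : TB S β 1 = T (a := a) β ((1 : F) • row B₂ β) (by rw [smul_dotProduct, hrow, smul_zero]) := rfl
    rw [this, T_mulVec, one_smul]
  have hTp : ∀ β, IsPGroup p (Subgroup.zpowers (TB S β 1)) := by
    intro β
    have hpow : ∀ m : ℕ, ∀ q, ((TB S β 1 ^ m : GL (Fin a × Fin b) F)).val *ᵥ q =
        q + (m : F) • pure (ctr (row B₂ β) q) β := fun m => by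
      induction m with
      | zero => intro q; simp
      | succ m ih =>
        intro q
        rw [pow_succ', mulVec_mul, ih, hT, map_add, map_smul, ctr_pure, hrow, zero_smul, smul_zero, add_zero,
          Nat.cast_succ, add_smul, one_smul]
        abel
    have hp1 : TB S β 1 ^ p = 1 := Units.ext (Cfsg.Agent.Lib.MaxSub.eq_of_mulVec_eq fun q => by
      rw [hpow, CharP.cast_eq_zero, zero_smul, add_zero, Units.val_one, Matrix.one_mulVec])
    exact fun y => ⟨1, by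
      obtain ⟨y, i, rfl⟩ := y
      refine Subtype.ext ?_
      rw [SubmonoidClass.coe_pow, pow_one, ← zpow_natCast, ← _root_.zpow_mul, mul_comm, _root_.zpow_mul, zpow_natCast,
        hp1, _root_.one_zpow]
      rfl⟩
  have htv : t ∈ Mv := ⟨htM, by rw [ht, hv, hT, ctr_pure, hrow, zero_smul, pure_zero_left, add_zero]⟩
  have htN : t ∈ N := mem_kronecker.mpr ⟨_, rfl⟩
  obtain ⟨P₀, hP₀⟩ := ((hTp β₀).comap_subtype (K := Mv ⊓ N)).exists_le_sylow
  set P : Subgroup (GL (Fin a × Fin b) F) := (P₀ : Subgroup ↥(Mv ⊓ N)).map (Mv ⊓ N).subtype with hP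
  have hPle : P ≤ Mv ⊓ N := Subgroup.map_subtype_le _
  have htP : t ∈ P := ⟨⟨t, htv, htN⟩, hP₀ (Subgroup.mem_zpowers t), rfl⟩
  have hPp : IsPGroup p P := P₀.isPGroup'.map _
  obtain ⟨P₁, hP₁⟩ := (hPp.comap_subtype (K := Mv)).exists_le_sylow
  set P' : Subgroup (GL (Fin a × Fin b) F) := (P₁ : Subgroup Mv).map Mv.subtype with hP'
  have hP'le : P' ≤ Mv := Subgroup.map_subtype_le _
  have hPP' : P ≤ P' := fun y hy => ⟨⟨y, (hPle hy).1⟩, hP₁ hy, rfl⟩
  have hPN : P' ≤ N := by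
    have hP'p : IsPGroup p P' := P₁.isPGroup'.map _
    -- the part in the Kronecker group is `P`
    have hint : P' ⊓ N ≤ P := by
      intro y hy
      have hle : (P₀ : Subgroup ↥(Mv ⊓ N)) ≤ (P' ⊓ N).subgroupOf (Mv ⊓ N) := fun z hz =>
        ⟨hPP' ⟨z, hz, rfl⟩, z.2.2⟩
      have h1 := P₀.3 ((hP'p.to_le inf_le_left).comap_subtype) hle
      have hy' : (⟨y, hP'le hy.1, hy.2⟩ : ↥(Mv ⊓ N)) ∈ (P₀ : Subgroup ↥(Mv ⊓ N)) := h1 ▸ hy
      exact ⟨_, hy', rfl⟩
    by_contra hne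
    haveI := hP'p.isNilpotent
    have hlt : P.subgroupOf P' < ⊤ := lt_top_iff_ne_top.mpr fun e => hne fun y hy =>
      (hPle ((Subgroup.subgroupOf_eq_top.mp e) hy)).2
    obtain ⟨⟨y, hy⟩, hyN, hyP⟩ := SetLike.exists_of_lt (Group.normalizerCondition_of_isNilpotent _ hlt)
    rw [Subgroup.mem_normalizer_iff] at hyN
    have h1 : y * t * y⁻¹ ∈ P := (hyN ⟨t, hPP' htP⟩).mp htP
    exact hyP (hint ⟨hy, G.key_mem S (hP'le hy).1 hβ₀0 (hPle h1).2⟩)
  rcases eq_or_ne x 0 with rfl | hx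
  · exact ⟨0, 0, by rw [pure_zero_left, Matrix.mulVec_zero, pure_zero_left]⟩
  rcases eq_or_ne u 0 with rfl | hu
  · exact ⟨0, 0, by rw [pure_zero_right, Matrix.mulVec_zero, pure_zero_left]⟩
  obtain ⟨g₁, hg₁, hg₁v, -⟩ := Grp.move S G.toGrp (show (Pi.single i₀ 1 : Fin a → F) ≠ 0 by simp) hx hβ₀0 hu
  set g' := g * g₁ with hg'
  have hg'M : g' ∈ M := M.mul_mem hg hg₁
  have hxu : g.val *ᵥ pure x u = g'.val *ᵥ v := by rw [hg', mulVec_mul, hv, hg₁v]
  rw [hxu]
  set z := g'.val *ᵥ v with hz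
  -- a transvection fixing the image
  let cz : (Fin b → F) →ₗ[F] (Fin a → F) :=
    { toFun := fun β => ctr (row B₂ β) z
      map_add' := fun β β' => by funext i; simp [ctr, row, Cfsg.Agent.Lib.MaxSub.toVec, mul_add, Finset.sum_add_distrib]
      map_smul' := fun c β => by
        funext i; simp [ctr, row, Cfsg.Agent.Lib.MaxSub.toVec, Finset.mul_sum, mul_left_comm] }
  obtain ⟨β, hβz, hβ0⟩ := Submodule.exists_mem_ne_zero_of_ne_bot (p := LinearMap.ker cz) (fun e => by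
    have h1 := cz.finrank_range_add_finrank_ker
    have h2 : finrank F (LinearMap.range cz) ≤ a := (Submodule.finrank_le _).trans (Module.finrank_fin_fun F).le
    rw [e, finrank_bot, Module.finrank_fin_fun] at h1
    have := S.hab
    omega)
  set t' := TB S β 1 with ht'
  have ht'z : t'.val *ᵥ z = z := by
    rw [ht', hT, show ctr (row B₂ β) z = 0 from hβz, pure_zero_left, add_zero]
  have hmem : g'⁻¹ * t' * g' ∈ Mv := ⟨M.mul_mem (M.mul_mem (M.inv_mem hg'M) (G.trB _ _)) hg'M,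
    by rw [mulVec_mul, mulVec_mul, ← hz, ht'z, hz, mulVec_inv_mulVec]⟩
  obtain ⟨P₂, hP₂⟩ := (((hTp β).map (MulAut.conj g'⁻¹).toMonoidHom).comap_subtype (K := Mv)).exists_le_sylow
  obtain ⟨j, hjP⟩ := MulAction.exists_smul_eq Mv P₂ P₁
  have h1 : (j : GL (Fin a × Fin b) F) * (g'⁻¹ * t' * g') * (j : GL (Fin a × Fin b) F)⁻¹ ∈ P' := by
    let mm : Mv := ⟨g'⁻¹ * t' * g', hmem⟩
    refine ⟨j * mm * j⁻¹, ?_, by simp only [map_mul, map_inv, Subgroup.coe_subtype, mm]⟩
    rw [← hjP, Sylow.coe_subgroup_smul]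
    exact ⟨mm, hP₂ ⟨t', Subgroup.mem_zpowers t', by
      rw [MulEquiv.coe_toMonoidHom, MulAut.conj_apply, inv_inv]; rfl⟩, by
      rw [MulDistribMulAction.toMonoidEnd_apply]; rfl⟩
  have h2 : (j : GL (Fin a × Fin b) F) * g'⁻¹ ∈ N := G.key_mem S (M.mul_mem j.2.1 (M.inv_mem hg'M)) hβ0 (by
    rw [show (j : GL (Fin a × Fin b) F) * g'⁻¹ * t' * ((j : GL (Fin a × Fin b) F) * g'⁻¹)⁻¹ =
      (j : GL (Fin a × Fin b) F) * (g'⁻¹ * t' * g') * (j : GL (Fin a × Fin b) F)⁻¹ by group]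
    exact hPN h1)
  obtain ⟨n, hn⟩ := mem_kronecker.mp (N.inv_mem h2)
  refine ⟨n.1.val *ᵥ Pi.single i₀ 1, n.2.val *ᵥ β₀, ?_⟩
  have hjv : ((j : GL (Fin a × Fin b) F)⁻¹ : GL (Fin a × Fin b) F).val *ᵥ v = v :=
    (congrArg (_ *ᵥ ·) j.2.2).symm.trans (mulVec_inv_mulVec _ _)
  rw [← kr_pure, hn, ← hv, _root_.mul_inv_rev, inv_inv, mulVec_mul, hjv, hz]

/-- An element preserving pure tensors lies in the Kronecker group. -/
theorem Good.le_kronecker : M ≤ Cfsg.Geo.kroneckerSubgroup a b F := by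
  classical
  intro g hg
  have hab := S.hab
  have hpure := fun {g : GL (Fin a × Fin b) F} (hg : g ∈ M) => G.pure_to_pure S hg
  let i₀ : Fin a := ⟨0, by have := S.ha; omega⟩
  let j₀ : Fin b := ⟨0, by have := S.h5; omega⟩
  have hinj : Function.Injective (g.val *ᵥ ·) := Matrix.mulVec_injective_of_isUnit g.isUnit
  choose y w hyw using hpure hg
  have hne : ∀ x u, x ≠ 0 → u ≠ 0 → y x u ≠ 0 ∧ w x u ≠ 0 := fun x u hx hu => by
    constructor <;> intro e <;> refine pure_ne_zero hx hu (hinj ?_) <;> show g.val *ᵥ _ = g.val *ᵥ _ <;>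
      rw [Matrix.mulVec_zero, hyw, e]
    · rw [pure_zero_left]
    · rw [pure_zero_right]
  -- rows go to rows
  have hrow : ∀ x, x ≠ 0 → ∀ u, u ≠ 0 → ∀ u', ∃ w', g.val *ᵥ pure x u' = pure (y x u) w' := by
    intro x hx u hu
    let f : (Fin b → F) →ₗ[F] (Fin a × Fin b → F) := (Matrix.mulVecLin g.val).comp (right x)
    have hf : ∀ u, f u = g.val *ᵥ pure x u := fun u => rfl
    have hfinj : Function.Injective f := fun u u' e => pure_right_cancel hx (hinj e)
    obtain ⟨hy0, hw0⟩ := hne x u hx hu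
    have hdicho : ∀ u', f u' ∈ LinearMap.range (right (b := b) (y x u)) ∨
        f u' ∈ LinearMap.range (left (a := a) (w x u)) := by
      intro u'
      by_cases hc : ∃ c : F, c • y x u = y x u'
      · obtain ⟨c, hc⟩ := hc
        refine Or.inl ⟨c • w x u', ?_⟩
        show pure (y x u) (c • w x u') = f u'
        rw [hf, hyw, ← hc, pure_smul_left, pure_smul_right]
      · have h1 : pure (y x u) (w x u) + pure (y x u') (w x u') = pure (y x (u + u')) (w x (u + u')) := by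
          rw [← hyw, ← hyw, ← hyw, ← Matrix.mulVec_add, pure_add_right]
        obtain ⟨d, hd⟩ := pure_add_pure h1 hc hy0 hw0
        refine Or.inr ⟨d • y x u', ?_⟩
        show pure (d • y x u') (w x u) = f u'
        rw [hf, hyw, ← hd, pure_smul_left, pure_smul_right]
    by_cases hall : ∀ u', f u' ∈ LinearMap.range (right (b := b) (y x u))
    · exact fun u' => (hall u').imp fun w' hw' => hw'.symm
    push Not at hall
    obtain ⟨u₁, hu₁⟩ := hall
    have h2 : ∀ u', f u' ∈ LinearMap.range (left (a := a) (w x u)) := fun u' => by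
      rcases hdicho u' with h | h
      · rcases hdicho (u' + u₁) with h' | h'
        · exact absurd (by simpa [map_add] using Submodule.sub_mem _ h' h) hu₁
        · simpa [map_add] using Submodule.sub_mem _ h' ((hdicho u₁).resolve_left hu₁)
      · exact h
    have h3 := Submodule.finrank_mono (show LinearMap.range f ≤ LinearMap.range (left (a := a) (w x u)) by
      rintro _ ⟨u', rfl⟩; exact h2 u')
    have h4 := LinearMap.finrank_range_le (left (a := a) (w x u))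
    rw [LinearMap.finrank_range_of_inj hfinj, Module.finrank_fin_fun] at h3
    rw [Module.finrank_fin_fun] at h4
    omega
  -- one column goes to a column
  set β₀ : Fin b → F := Pi.single j₀ 1
  have hβ₀ : β₀ ≠ 0 := by simp [β₀]
  let e₀ : Fin a → F := Pi.single i₀ 1
  have he₀ : e₀ ≠ 0 := by simp [e₀]
  set Y := fun x => y x β₀ with hY
  have hYind : ∀ x x', x ≠ 0 → x' ≠ 0 → (¬ ∃ c : F, c • x = x') → ¬ ∃ c : F, c • Y x = Y x' := by
    rintro x x' hx hx' hne' ⟨c, hc⟩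
    choose W hW using hrow x hx β₀ hβ₀
    have hWinj : Function.Injective W := fun u u' e => pure_right_cancel hx (hinj (by
      show g.val *ᵥ _ = g.val *ᵥ _
      rw [hW, hW, e]))
    obtain ⟨u, hu⟩ := (Finite.injective_iff_surjective.mp hWinj) (c • w x' β₀)
    have h1 : g.val *ᵥ pure x u = g.val *ᵥ pure x' β₀ := by
      rw [hW, hu, hyw x' β₀]
      show pure (Y x) _ = pure (Y x') _
      rw [← hc, pure_smul_left, pure_smul_right]
    have h2 : pure x u + pure x' (-β₀) = 0 := by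
      rw [hinj h1, ← neg_one_smul F β₀, pure_smul_right, neg_one_smul, add_neg_cancel]
    exact hβ₀ (neg_eq_zero.mp (pure_indep hne' hx h2).2)
  set w₀ := w e₀ β₀
  have hw₀0 : w₀ ≠ 0 := (hne _ _ he₀ hβ₀).2
  have hcol : ∀ x, ∃ z, g.val *ᵥ pure x β₀ = pure z w₀ := by
    intro x
    rcases eq_or_ne x 0 with rfl | hx
    · exact ⟨0, by rw [pure_zero_left, Matrix.mulVec_zero, pure_zero_left]⟩
    by_cases hc : ∃ c : F, c • e₀ = x
    · obtain ⟨c, rfl⟩ := hc
      exact ⟨c • Y e₀, by rw [pure_smul_left, Matrix.mulVec_smul, hyw, pure_smul_left]⟩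
    have hzw : pure (Y e₀) w₀ + pure (Y x) (w x β₀) = pure (y (e₀ + x) β₀) (w (e₀ + x) β₀) := by
      rw [← hyw, ← hyw, ← hyw, ← Matrix.mulVec_add, pure_add_left]
    obtain ⟨d, hd⟩ := pure_add_pure hzw (hYind e₀ x he₀ hx hc) (hne _ _ he₀ hβ₀).1 hw₀0
    exact ⟨d • Y x, by rw [hyw, ← hd, pure_smul_left, pure_smul_right]⟩
  obtain ⟨h, hh, hhv, hhN⟩ := Grp.move S G.toGrp he₀ he₀ hw₀0 hβ₀
  obtain ⟨gg, hgg⟩ := mem_kronecker.mp hhN
  rw [← hgg, kr_pure] at hhv
  obtain ⟨c, hc⟩ : ∃ c : F, gg.2.val *ᵥ w₀ = c • β₀ := by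
    obtain ⟨η, hη⟩ := exists_dot_one (b := a) (β := gg.1.val *ᵥ e₀) (fun e' => by
      rw [e', pure_zero_left] at hhv
      exact pure_ne_zero he₀ hβ₀ hhv.symm)
    have h3 := congrArg (ctl η) hhv
    rw [ctl_pure, ctl_pure, hη, one_smul] at h3
    exact ⟨_, h3⟩
  have h1 := G.mem_of_stab S (M.mul_mem hh hg) hβ₀ fun x => by
    obtain ⟨z, hz⟩ := hcol x
    exact ⟨c • (gg.1.val *ᵥ z), by rw [mulVec_mul, hz, ← hgg, kr_pure, hc, pure_smul_right, pure_smul_left]⟩
  have := Subgroup.mul_mem _ (Subgroup.inv_mem _ hhN) h1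
  rwa [inv_mul_cancel_left] at this

omit G in
/-- The dichotomy. -/
theorem Sys.dichotomy (hM : Grp S M) :
    M ≤ Cfsg.Geo.kroneckerSubgroup a b F ∨ Cfsg.Geo.omegaGL ⇑Q ≤ M := by
  classical
  have hcard : 7 ≤ Fintype.card (Fin a × Fin b) := by
    rw [Fintype.card_prod, Fintype.card_fin, Fintype.card_fin]
    have h1 := Nat.mul_le_mul S.ha S.h5
    omega
  have hb : 4 < finrank F (Fin b → F) := by rw [Module.finrank_fin_fun]; have := S.h5; omega
  by_contra hno
  push Not at hno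
  refine hno.1 (Good.le_kronecker S ⟨hM, fun x u w hx hu hw h0 he => hno.2 ?_,
    fun x y u hu hx hy h0 he => hno.2 ?_⟩)
  · exact S.bl.omega_le (hM.tr_B S) (hM.tr_A S) hcard hb hx hu hw h0 (by simpa using he)
  · refine S.bl.omega_le_flat (hM.tr_B S) (hM.tr_A S) hcard hb ?_ hu hx hy h0 (by simpa using he)
    by_contra ha
    rw [Module.finrank_fin_fun] at ha
    obtain ⟨p, hp⟩ := S.bl.s1.partner hx
    have hli : LinearIndependent F ![y, x, p] := by
      refine Fintype.linearIndependent_iff.mpr fun g hg => ?_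
      simp [Fin.sum_univ_three] at hg
      have e2 := congrArg (B₁ x) hg
      simp [h0, hp, S.bl.s1.self] at e2
      rw [e2, zero_smul, add_zero] at hg
      have e0 : g 0 = 0 := by
        by_contra hne'
        refine hy (Submodule.mem_span_singleton.mpr ⟨-g 1 / g 0, ?_⟩)
        rw [div_eq_inv_mul, mul_smul, inv_smul_eq_iff₀ hne', neg_smul, eq_comm]
        exact eq_neg_of_add_eq_zero_left hg
      rw [e0, zero_smul, zero_add, smul_eq_zero, or_iff_left hx] at hg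
      intro i
      fin_cases i <;> assumption
    have := hli.fintype_card_le_finrank
    rw [Fintype.card_fin, Module.finrank_fin_fun] at this
    omega

end Cfsg.Agent.Lib.TensorSp
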