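import Cfsg.Agent.Lib.TensorSp.Dich
import Cfsg.Agent.Lib.Geometry.SympBasis

/-!
The products of symplectic transvections lie in the commutator subgroup of the orthogonal group; the stabiliser of
the tensor decomposition is maximal.
-/

set_option autoImplicit false

namespace Cfsg.Agent.Lib.TensorSp

open Module Matrix QuadraticMap
open Cfsg.Agent.Lib.MaxSub
open Cfsg.Agent.Lib.ThreeTransp.Tensor
open Cfsg.Agent.Lib.Geometry (exists_sympBasis quad_polar_comm)
open scoped MatrixGroups Matrix Kronecker commutatorElement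

attribute [-simp] QuadraticMap.polarBilin_apply_apply

variable {F : Type*} [Field F]

section Omega

variable {ι : Type} [Fintype ι] [DecidableEq ι] {Q : QuadraticForm F (ι → F)}
variable {X Y : Type*} [AddCommGroup X] [Module F X] [AddCommGroup Y] [Module F Y] [FiniteDimensional F X]
  [FiniteDimensional F Y]
variable {m : X →ₗ[F] Y →ₗ[F] (ι → F)} {B₁ : LinearMap.BilinForm F X} {B₂ : LinearMap.BilinForm F Y}

/-- `1 ⊗` a transvection is a product of Eichler elements. -/
theorem Bl.tr_omega [Finite F] (H : Bl Q m B₁ B₂) (hn : 7 ≤ Fintype.card ι) :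
    Tr Q m B₂ (Cfsg.Geo.omegaGL ⇑Q) := by
  classical
  intro z c
  let D : (X →ₗ[F] X) → Prop := fun C => ∃ g ∈ Cfsg.Geo.omegaGL ⇑Q, ∀ x u,
    (g : Matrix ι ι F) *ᵥ m x u = m x u + B₂ z u • m (C x) z
  have hadd : ∀ C C', D C → D C' → D (C + C') := by
    rintro C C' ⟨g, hg, e⟩ ⟨g', hg', e'⟩
    refine ⟨g * g', Subgroup.mul_mem _ hg hg', fun x u => ?_⟩
    rw [Units.val_mul, ← Matrix.mulVec_mulVec, e', Matrix.mulVec_add, Matrix.mulVec_smul, e, e, H.s2.self, zero_smul,
      add_zero, LinearMap.add_apply, map_add, LinearMap.add_apply, smul_add]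
    abel
  have hzero : D 0 := ⟨1, Subgroup.one_mem _, fun x u => by simp⟩
  obtain ⟨r, k, b, h12, h11, h22, hrad⟩ := exists_sympBasis B₁ H.s1.alt
  have hk : IsEmpty (Fin k) := ⟨fun j => b.ne_zero (Sum.inr j) (H.s1.nd.1 _ (hrad j))⟩
  let e : Fin r → X := fun i => b (Sum.inl (Sum.inl i))
  let f : Fin r → X := fun i => b (Sum.inl (Sum.inr i))
  let C : Fin r → (X →ₗ[F] X) := fun i => c • ((B₁.flip (f i)).smulRight (e i) - (B₁.flip (e i)).smulRight (f i))
  have hC : ∀ i, D (C i) := fun i => by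
    have hp : polarBilin Q (m (e i) z) (m (c • f i) z) = 0 := by rw [H.pol, H.s2.self, mul_zero]
    refine ⟨Orth.eichGL Q (m (e i) z) (m (c • f i) z) (H.quad _ _) hp,
      Orth.eichGL_mem_omega H.hN hn (H.quad _ _) hp, fun x u => ?_⟩
    rw [Orth.eichGL_mulVec, H.quad, H.pol, H.pol, H.s2.swap z u]
    simp only [C, LinearMap.smul_apply, LinearMap.sub_apply, LinearMap.smulRight_apply, LinearMap.flip_apply, LinearMap.BilinForm.flip_apply, map_sub,
      map_smul, smul_eq_mul]
    module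
  have hsum : ∀ s : Finset (Fin r), D (∑ i ∈ s, C i) := fun s => by
    induction s using Finset.induction with
    | empty => simpa using hzero
    | insert i s hi ih => rw [Finset.sum_insert hi]; exact hadd _ _ (hC i) ih
  have hid : ∑ i, C i = c • LinearMap.id := by
    refine b.ext fun p => ?_
    rcases p with (j | j) | j
    · simp [C, e, f, h12, h11, LinearMap.sum_apply]
    · simp [C, e, f, h22, LinearMap.sum_apply, H.s1.swap (b (Sum.inl (Sum.inl _))) (b (Sum.inl (Sum.inr j))), h12]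
    · exact hk.elim j
  obtain ⟨g, hg, hge⟩ := hsum Finset.univ
  refine ⟨g, hg, Orth.omegaGL_le_isometry hg, fun x u => ?_⟩
  rw [hge, hid, tr_apply, map_add, map_smul, LinearMap.smul_apply, LinearMap.id_apply, map_smul,
    LinearMap.smul_apply, smul_smul, mul_comm]

end Omega

section Main

variable {a b : ℕ} {Q : QuadraticForm F (Fin a × Fin b → F)} {B₁ : LinearMap.BilinForm F (Fin a → F)}
  {B₂ : LinearMap.BilinForm F (Fin b → F)} (S : Sys Q B₁ B₂) [Finite F]
include S

theorem Sys.card_le : 7 ≤ Fintype.card (Fin a × Fin b) := by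
  rw [Fintype.card_prod, Fintype.card_fin, Fintype.card_fin]
  have h1 := Nat.mul_le_mul S.ha S.h5
  omega

theorem Sys.TB_mem (v : Fin b → F) (c : F) :
    TB S v c ∈ Cfsg.Geo.kroneckerSubgroup a b F ⊓ Cfsg.Geo.omegaGL ⇑Q := by
  obtain ⟨g, hg, -, e⟩ := S.bl.tr_omega S.card_le v c
  refine ⟨mem_kronecker.mpr ⟨_, rfl⟩, ?_⟩
  rw [show TB S v c = g from Units.ext (eq_of_pure (F := F) fun x u => by
    rw [S.TB_pure]; exact (e x u).symm)]
  exact hg

theorem Sys.TA_mem (v : Fin a → F) (c : F) :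
    TA S v c ∈ Cfsg.Geo.kroneckerSubgroup a b F ⊓ Cfsg.Geo.omegaGL ⇑Q := by
  obtain ⟨g, hg, -, e⟩ := S.bl.flip.tr_omega S.card_le v c
  refine ⟨mem_kronecker.mpr ⟨_, rfl⟩, ?_⟩
  rw [show TA S v c = g from Units.ext (eq_of_pure (F := F) fun x u => by
    rw [S.TA_pure]; exact (e u x).symm)]
  exact hg

/-- Some Eichler element does not preserve the decomposition. -/
theorem Sys.lt : Cfsg.Geo.kroneckerSubgroup a b F ⊓ Cfsg.Geo.omegaGL ⇑Q < Cfsg.Geo.omegaGL ⇑Q := by
  classical
  let x : Fin a → F := Pi.single ⟨0, by have := S.ha; omega⟩ 1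
  let u : Fin b → F := Pi.single ⟨0, by have := S.h5; omega⟩ 1
  have hx : x ≠ 0 := by simp [x]
  have hu : u ≠ 0 := by simp [u]
  obtain ⟨y, hy⟩ := S.bl.s1.partner hx
  obtain ⟨w, q, hs, hwq⟩ := S.bl.s2.pair_perp {u} (by rw [Module.finrank_fin_fun, Finset.card_singleton]; have := S.h5; omega)
  obtain ⟨huw, huq⟩ := hs u (by simp)
  have hw0 : w ≠ 0 := fun e => by rw [e, map_zero, LinearMap.zero_apply] at hwq; exact zero_ne_one hwq
  obtain ⟨d, hd, hdu⟩ := S.bl.s2.dual (F ∙ w) (x := u) (fun hm => by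
    obtain ⟨c, hc⟩ := Submodule.mem_span_singleton.mp hm
    rw [← hc, map_smul, LinearMap.smul_apply, hwq, smul_eq_mul, mul_one] at huq
    exact hu (by rw [← hc, huq, zero_smul]))
  have hdw : B₂ d w = 0 := hd w (Submodule.mem_span_singleton_self w)
  have hp : polarBilin Q (pure x u) (pure y w) = 0 := by rw [S.pol, huw, mul_zero]
  refine lt_of_le_of_ne inf_le_right fun h => ?_
  have hin := Orth.eichGL_mem_omega S.bl.hN S.card_le (S.quad x u) hp
  rw [← h] at hin
  obtain ⟨gh, hgh⟩ := mem_kronecker.mp hin.1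
  have h1 := kr_pure gh (x + y) d
  rw [hgh, Orth.eichGL_mulVec, S.quad, S.pol, S.pol, map_add, LinearMap.add_apply, S.bl.s1.self, S.bl.s1.swap x y, hy,
    hdu, hdw] at h1
  have h2 : pure (x + y) d + pure (-y) w = pure (gh.1.val *ᵥ (x + y)) (gh.2.val *ᵥ d) := by
    rw [← h1, pure_neg_left]
    module
  obtain ⟨c, hc⟩ := pure_add_pure h2 (fun ⟨c, hc⟩ => by
    have h3 := congrArg (B₁ x) hc
    rw [map_smul, map_add, S.bl.s1.self, hy, map_neg, hy, zero_add, smul_eq_mul, mul_one] at h3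
    rw [h3, neg_smul, one_smul, neg_inj, add_eq_right] at hc
    exact hx hc) (fun e => by
      have h3 := congrArg (B₁ x) e
      rw [map_add, S.bl.s1.self, hy, map_zero, zero_add] at h3
      exact one_ne_zero h3) (fun e => by rw [e, map_zero, LinearMap.zero_apply] at hdu; exact zero_ne_one hdu)
  have h4 := congrArg (B₂ u) hc
  rw [huw, map_smul, S.bl.s2.swap d u, hdu, smul_neg, smul_eq_mul, mul_one, neg_eq_zero] at h4
  exact hw0 (by rw [← hc, h4, zero_smul])

/-- Maximality. -/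
theorem Sys.maximal : Cfsg.Geo.IsMaximalIn (Cfsg.Geo.omegaGL ⇑Q)
    (Cfsg.Geo.kroneckerSubgroup a b F ⊓ Cfsg.Geo.omegaGL ⇑Q) := by
  refine ⟨S.lt, fun M h1 h2 => ?_⟩
  rcases S.dichotomy (M := M) ⟨h2.trans Orth.omegaGL_le_isometry, fun v c => h1 (S.TA_mem v c),
    fun v c => h1 (S.TB_mem v c)⟩ with h | h
  · exact Or.inl (le_antisymm (le_inf h h2) h1)
  · exact Or.inr (le_antisymm h2 h)

end Main

section Transfer

variable {ι κ : Type} [Fintype ι] [DecidableEq ι] [Fintype κ] [DecidableEq κ]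

/-- `omegaGL` is the commutator of the isometry group. -/
theorem omegaGL_eq (Q : (ι → F) → F) :
    Cfsg.Geo.omegaGL Q = ⁅Cfsg.isometryGroup F Q, Cfsg.isometryGroup F Q⁆ := by
  rw [Cfsg.Geo.omegaGL, Cfsg.Omega, commutator_def, Subgroup.map_commutator, ← MonoidHom.range_eq_map,
    Subgroup.range_subtype]

/-- A similarity of the coordinates carries the commutator subgroup along. -/
theorem omegaGL_map {Q : QuadraticForm F (ι → F)} (L : (κ → F) ≃ₗ[F] (ι → F)) (Φ : GL κ F ≃* GL ι F)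
    (hΦ : ∀ g p, (Φ g : Matrix ι ι F) *ᵥ L p = L ((g : Matrix κ κ F) *ᵥ p)) :
    (Cfsg.Geo.omegaGL ⇑(Q.comp L.toLinearMap)).map Φ.toMonoidHom = Cfsg.Geo.omegaGL ⇑Q := by
  have h : (Cfsg.isometryGroup F ⇑(Q.comp L.toLinearMap)).map Φ.toMonoidHom = Cfsg.isometryGroup F ⇑Q := by
    ext g
    rw [Subgroup.mem_map_equiv]
    constructor
    · intro h x y
      obtain ⟨p, rfl⟩ := L.surjective x
      have := h p p
      show Q ((g : Matrix ι ι F) *ᵥ L p) = Q (L p)
      rw [← Φ.apply_symm_apply g, hΦ]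
      exact this
    · intro h p q
      show Q (L ((Φ.symm g : Matrix κ κ F) *ᵥ p)) = Q (L p)
      rw [← hΦ, Φ.apply_symm_apply]
      exact h (L p) (L p)
  rw [omegaGL_eq, omegaGL_eq, Subgroup.map_commutator, h]

end Transfer

end Cfsg.Agent.Lib.TensorSp
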