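import Cfsg.Agent.Lib.TensorSp.Alt
import Cfsg.Agent.Lib.ThreeTransp.SubOrthBase

/-!
A tensor product of two symplectic spaces: one root element on a line `x ⊗ W` gives the whole orthogonal group.
-/

set_option autoImplicit false

namespace Cfsg.Agent.Lib.TensorSp

open Module Matrix QuadraticMap
open Cfsg.Agent.Lib.MaxSub
open Cfsg.Agent.Lib.MaxSub.OrthSplit (InE)
open Cfsg.Agent.Lib.ThreeTransp.DecompOrth (inE_zero inE_neg inE_add inE_flip)
open Cfsg.Agent.Lib.ThreeTransp.SubOrth (inE_line inE_left_zero inE_comm)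
open Cfsg.Agent.Lib.Geometry (quad_smul quad_polar_comm)
open scoped MatrixGroups Matrix

attribute [-simp] QuadraticMap.polarBilin_apply_apply

variable {ι : Type} [Fintype ι] [DecidableEq ι] {F : Type*} [Field F] {Q : QuadraticForm F (ι → F)}
variable {X Y : Type*} [AddCommGroup X] [Module F X] [AddCommGroup Y] [Module F Y]

/-- The space with its form is the tensor product of two symplectic spaces. -/
structure Bl (Q : QuadraticForm F (ι → F)) (m : X →ₗ[F] Y →ₗ[F] (ι → F)) (B₁ : LinearMap.BilinForm F X)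
    (B₂ : LinearMap.BilinForm F Y) : Prop where
  hN : (polarBilin Q).Nondegenerate
  s1 : Symp B₁
  s2 : Symp B₂
  span : ⊤ ≤ Submodule.span F {q | ∃ x u, q = m x u}
  quad : ∀ x u, Q (m x u) = 0
  pol : ∀ x y u w, polarBilin Q (m x u) (m y w) = B₁ x y * B₂ u w

variable {m : X →ₗ[F] Y →ₗ[F] (ι → F)} {B₁ : LinearMap.BilinForm F X} {B₂ : LinearMap.BilinForm F Y}

theorem Bl.flip (h : Bl Q m B₁ B₂) : Bl Q m.flip B₂ B₁ :=
  ⟨h.hN, h.s2, h.s1, h.span.trans (Submodule.span_mono (by rintro _ ⟨x, u, rfl⟩; exact ⟨u, x, rfl⟩)),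
    fun u x => h.quad x u, fun u w x y => (h.pol x y u w).trans (mul_comm _ _)⟩

variable {M : Subgroup (GL ι F)}

/-- `1 ⊗ h` lies in the group. -/
def Lft (Q : QuadraticForm F (ι → F)) (m : X →ₗ[F] Y →ₗ[F] (ι → F)) (M : Subgroup (GL ι F)) (h : Y →ₗ[F] Y) : Prop :=
  ∃ g ∈ M, g ∈ Cfsg.isometryGroup F ⇑Q ∧ ∀ x u, (g : Matrix ι ι F) *ᵥ m x u = m x (h u)

theorem Lft.comp {h h' : Y →ₗ[F] Y} (a : Lft Q m M h) (b : Lft Q m M h') : Lft Q m M (h ∘ₗ h') := by
  obtain ⟨g, hg, hgi, e⟩ := a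
  obtain ⟨g', hg', hgi', e'⟩ := b
  refine ⟨g * g', M.mul_mem hg hg', Subgroup.mul_mem _ hgi hgi', fun x u => ?_⟩
  rw [Units.val_mul, ← Matrix.mulVec_mulVec, e', e]
  rfl

variable [FiniteDimensional F X] [FiniteDimensional F Y]

/-- All the symplectic transvections of the second factor lie in the group. -/
def Tr (Q : QuadraticForm F (ι → F)) (m : X →ₗ[F] Y →ₗ[F] (ι → F)) (B₂ : LinearMap.BilinForm F Y)
    (M : Subgroup (GL ι F)) : Prop :=
  ∀ z c, Lft Q m M (tr B₂ z c)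

/-- A product of transvections in the group carrying one vector to another. -/
theorem exists_move (s : Symp B₂) (hT : Tr Q m B₂ M) {v w : Y} (hv : v ≠ 0) (hw : w ≠ 0) :
    ∃ h : Y →ₗ[F] Y, Lft Q m M h ∧ (∀ p q, B₂ (h p) (h q) = B₂ p q) ∧ h v = w := by
  have one : ∀ {v w : Y}, B₂ v w ≠ 0 →
      ∃ h : Y →ₗ[F] Y, Lft Q m M h ∧ (∀ p q, B₂ (h p) (h q) = B₂ p q) ∧ h v = w := fun {v w} hne => by
    refine ⟨tr B₂ (w - v) (B₂ (w - v) v)⁻¹, hT _ _, s.tr_isom _ _, ?_⟩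
    rw [tr_apply, inv_mul_cancel₀, one_smul, add_sub_cancel]
    rw [map_sub, LinearMap.sub_apply, s.self, sub_zero, s.swap v w]
    exact neg_ne_zero.mpr hne
  by_cases hne : B₂ v w = 0
  swap
  · exact one hne
  obtain ⟨p, hp⟩ := s.partner hv
  obtain ⟨r, hr⟩ := s.partner hw
  obtain ⟨y, hvy, hyw⟩ : ∃ y, B₂ v y ≠ 0 ∧ B₂ y w ≠ 0 := by
    by_cases h1 : B₂ p w = 0
    · by_cases h2 : B₂ v r = 0
      · refine ⟨p + r, by rw [map_add, hp, h2, add_zero]; exact one_ne_zero, ?_⟩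
        rw [map_add, LinearMap.add_apply, h1, zero_add, s.swap w r, hr]
        exact neg_ne_zero.mpr one_ne_zero
      · exact ⟨r, h2, by rw [s.swap w r, hr]; exact neg_ne_zero.mpr one_ne_zero⟩
    · exact ⟨p, by rw [hp]; exact one_ne_zero, h1⟩
  obtain ⟨h₁, l₁, i₁, e₁⟩ := one hvy
  obtain ⟨h₂, l₂, i₂, e₂⟩ := one hyw
  exact ⟨h₂ ∘ₗ h₁, l₂.comp l₁, fun a b => by simp [i₁, i₂], by simp [e₁, e₂]⟩

omit [FiniteDimensional F X] [FiniteDimensional F Y] in
theorem inE_lft {x x' : X} {u w : Y} {h : Y →ₗ[F] Y} (hl : Lft Q m M h) (e : InE Q M (m x u) (m x' w)) :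
    InE Q M (m x (h u)) (m x' (h w)) := by
  obtain ⟨g, hg, hgi, hge⟩ := hl
  have := e.conj hg hgi
  rwa [hge, hge] at this

variable (H : Bl Q m B₁ B₂) (hY : Tr Q m B₂ M) (hX : Tr Q m.flip B₁ M)
include H hY hX

/-- One root on a line `x ⊗ W` gives all of them. -/
theorem Bl.spread {x₀ : X} {u₀ w₀ : Y} (hx₀ : x₀ ≠ 0) (hu₀ : u₀ ≠ 0) (hw₀ : w₀ ∉ F ∙ u₀) (h0 : B₂ u₀ w₀ = 0)
    (he : InE Q M (m x₀ u₀) (m x₀ w₀)) {x : X} {u w : Y} (hw : B₂ u w = 0) : InE Q M (m x u) (m x w) := by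
  rcases eq_or_ne x 0 with rfl | hx
  · simpa using inE_left_zero (Q := Q) (K := M) (0 : ι → F)
  rcases eq_or_ne u 0 with rfl | hu
  · simpa using inE_left_zero (Q := Q) (K := M) (m x w)
  obtain ⟨h, hl, -, hxe⟩ := exists_move H.s1 hX hx₀ hx
  have h1 : InE Q M (m x u₀) (m x w₀) := by
    obtain ⟨g, hg, hgi, hge⟩ := hl
    have := he.conj hg hgi
    rw [show m x₀ u₀ = m.flip u₀ x₀ from rfl, show m x₀ w₀ = m.flip w₀ x₀ from rfl, hge, hge, hxe] at this
    exact this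
  obtain ⟨k, hk, hki, hke⟩ := exists_move H.s2 hY hu₀ hu
  obtain ⟨w', rfl⟩ := H.s2.surj hki w
  subst hke
  rw [hki] at hw
  refine inE_lft hk (H.s2.perp_gen (fun p => InE Q M (m x u₀) (m x p)) (fun p q hp hq => ?_)
    (fun y c p hy hp hp' => ?_) h1 h0 hw₀ hw)
  · rw [map_sub]; exact hp.sub hq
  · have := inE_lft (hY y c) hp'
    rwa [tr_apply, tr_apply, H.s2.zero_swap hy, mul_zero, zero_smul, add_zero] at this

variable (hall : ∀ (x : X) (u w : Y), B₂ u w = 0 → InE Q M (m x u) (m x w))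
include hall

omit hY hX in
/-- The commutator of two roots on lines `x ⊗ W`, `y ⊗ W'`. -/
theorem Bl.step {x y : X} {u w' p q : Y} (hxy : B₁ x y = 1) (huw : B₂ u w' = 0) (hu : B₂ u p = 0)
    (hu' : B₂ u q = 0) (hw : B₂ w' p = 0) (hw' : B₂ w' q = 0) (hpq : B₂ p q = 1) :
    InE Q M (m x u) (m y w') := by
  have h1 : InE Q M (m x p) ((1 : F) • m x u) := by rw [one_smul]; exact hall x p u (H.s2.zero_swap hu)
  have h2 : InE Q M (m y q) ((1 : F) • m y w') := by rw [one_smul]; exact hall y q w' (H.s2.zero_swap hw')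
  have := inE_comm (e := m x p) (f := m y q) (z := m x u) (z' := m y w') (by rw [H.pol, hxy, hpq, one_mul])
    (H.quad _ _) (H.quad _ _) (H.quad _ _) (by rw [H.pol, H.s2.zero_swap hw, mul_zero])
    (by rw [H.pol, huw, mul_zero]) (by rw [H.pol, H.s2.zero_swap hu', mul_zero]) h1 h2
  rwa [one_mul, one_smul] at this

omit hY hX in
/-- Orthogonal second factors. -/
theorem Bl.row (hex : ∀ u w : Y, B₂ u w = 0 → ∃ p q, B₂ u p = 0 ∧ B₂ u q = 0 ∧ B₂ w p = 0 ∧ B₂ w q = 0 ∧ B₂ p q = 1)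
    {x : X} (y : X) {u w : Y} (huw : B₂ u w = 0) : InE Q M (m x u) (m y w) := by
  rcases eq_or_ne x 0 with rfl | hx
  · simpa using inE_left_zero (Q := Q) (K := M) (m y w)
  have key : ∀ y, B₁ x y ≠ 0 → InE Q M (m x u) (m y w) := by
    intro y hy
    have huw' : B₂ u (B₁ x y • w) = 0 := by rw [map_smul, huw, smul_zero]
    obtain ⟨p, q, a, b, c, d, e⟩ := hex u (B₁ x y • w) huw'
    have h := H.step hall (x := x) (y := (B₁ x y)⁻¹ • y) (by rw [map_smul, smul_eq_mul, inv_mul_cancel₀ hy]) huw'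
      a b c d e
    rwa [map_smul, map_smul, LinearMap.smul_apply, smul_smul, mul_inv_cancel₀ hy, one_smul] at h
  by_cases hy : B₁ x y = 0
  · obtain ⟨y₀, hy₀⟩ := H.s1.partner hx
    have h := (key (y + y₀) (by rw [map_add, hy, hy₀, zero_add]; exact one_ne_zero)).sub
      (key y₀ (by rw [hy₀]; exact one_ne_zero))
    rwa [map_add, LinearMap.add_apply, add_sub_cancel_right] at h
  · exact key y hy

omit hY hX in
/-- Roots on lines `X ⊗ u`. -/
theorem Bl.flat (hb : 2 < finrank F Y) (x y : X) (u : Y) : InE Q M (m x u) (m y u) := by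
  classical
  rcases eq_or_ne x 0 with rfl | hx
  · simpa using inE_left_zero (Q := Q) (K := M) (m y u)
  obtain ⟨p, q, hs, hpq⟩ := H.s2.pair_perp {u} (by simpa using hb)
  obtain ⟨hup, huq⟩ := hs u (by simp)
  have key : ∀ y, B₁ x y ≠ 0 → InE Q M (m x u) (m y u) := by
    intro y hy
    have h := H.step hall (x := x) (y := (B₁ x y)⁻¹ • y) (u := u) (w' := B₁ x y • u)
      (by rw [map_smul, smul_eq_mul, inv_mul_cancel₀ hy]) (by rw [map_smul, H.s2.self, smul_zero]) hup huq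
      (by rw [map_smul, LinearMap.smul_apply, hup, smul_zero]) (by rw [map_smul, LinearMap.smul_apply, huq, smul_zero]) hpq
    rwa [map_smul, map_smul, LinearMap.smul_apply, smul_smul, mul_inv_cancel₀ hy, one_smul] at h
  by_cases hy : B₁ x y = 0
  · obtain ⟨y₀, hy₀⟩ := H.s1.partner hx
    have h := (key (y + y₀) (by rw [map_add, hy, hy₀, zero_add]; exact one_ne_zero)).sub
      (key y₀ (by rw [hy₀]; exact one_ne_zero))
    rwa [map_add, LinearMap.add_apply, add_sub_cancel_right] at h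
  · exact key y hy

omit hY hX in
/-- Orthogonal pure tensors. -/
theorem Bl.pures (hb : 4 < finrank F Y) {x y : X} {u w : Y} (h : B₁ x y * B₂ u w = 0) :
    InE Q M (m x u) (m y w) := by
  classical
  have hex : ∀ u w : Y, B₂ u w = 0 →
      ∃ p q, B₂ u p = 0 ∧ B₂ u q = 0 ∧ B₂ w p = 0 ∧ B₂ w q = 0 ∧ B₂ p q = 1 := fun u w _ => by
    obtain ⟨p, q, hs, hpq⟩ := H.s2.pair_perp {u, w} (by
      have := Finset.card_le_two (a := u) (b := w); omega)
    exact ⟨p, q, (hs u (by simp)).1, (hs u (by simp)).2, (hs w (by simp)).1, (hs w (by simp)).2, hpq⟩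
  by_cases huw : B₂ u w = 0
  · exact H.row hall hex y huw
  have hxy : B₁ x y = 0 := (mul_eq_zero.mp h).resolve_right huw
  rcases eq_or_ne x 0 with rfl | hx
  · simpa using inE_left_zero (Q := Q) (K := M) (m y w)
  obtain ⟨z, hz⟩ := H.s1.partner hx
  obtain ⟨v, v', hs, hvv⟩ := H.s2.pair_perp {u, w} (by have := Finset.card_le_two (a := u) (b := w); omega)
  obtain ⟨huv, huv'⟩ := hs u (by simp)
  obtain ⟨hwv, hwv'⟩ := hs w (by simp)
  have h1 : InE Q M (m x v) ((1 : F) • m x u) := by rw [one_smul]; exact hall x v u (H.s2.zero_swap huv)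
  have h2 : InE Q M (m z v') ((1 : F) • m y w) := by rw [one_smul]; exact H.row hall hex y (H.s2.zero_swap hwv')
  have := inE_comm (e := m x v) (f := m z v') (z := m x u) (z' := m y w) (by rw [H.pol, hz, hvv, one_mul])
    (H.quad _ _) (H.quad _ _) (H.quad _ _) (by rw [H.pol, H.s2.zero_swap hwv, mul_zero])
    (by rw [H.pol, hxy, zero_mul]) (by rw [H.pol, H.s2.zero_swap huv', mul_zero]) h1 h2
  rwa [one_mul, one_smul] at this

omit hY hX in
/-- The roots at pure tensors. -/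
theorem Bl.root (hb : 4 < finrank F Y) {x : X} {u : Y} (hx : x ≠ 0) (hu : u ≠ 0) : Orth.Root Q M (m x u) := by
  obtain ⟨x', hx'⟩ := H.s1.partner hx
  obtain ⟨u', hu'⟩ := H.s2.partner hu
  refine ⟨H.quad x u, fun q hq => ?_⟩
  have hmain : ∀ (r : ι → F) (c : F), InE Q M (m x u) (c • (r - polarBilin Q (m x u) r • m x' u')) := by
    intro r
    clear hq
    induction (H.span (Submodule.mem_top (x := r))) using Submodule.span_induction with
    | mem r hr =>
      obtain ⟨y, w, rfl⟩ := hr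
      intro c
      have h1 := H.pures hall hb (x := x) (y := y - B₁ x y • x') (u := u) (w := c • w)
        (by rw [map_sub, map_smul, hx', smul_eq_mul, mul_one, sub_self, zero_mul])
      have h2 := H.pures hall hb (x := x) (y := x') (u := u) (w := (c * B₁ x y) • (w - B₂ u w • u'))
        (by rw [map_smul, map_sub, map_smul, hu']; simp)
      convert inE_add h1 h2 using 1
      rw [H.pol]
      simp only [map_sub, map_smul, LinearMap.sub_apply, LinearMap.smul_apply]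
      module
    | zero =>
      intro c
      simpa using H.pures hall hb (x := x) (y := 0) (u := u) (w := u) (by simp)
    | add r s _ _ hr hs =>
      intro c
      convert inE_add (hr c) (hs c) using 1
      rw [map_add]
      module
    | smul d r _ hr =>
      intro c
      convert hr (c * d) using 1
      rw [map_smul, smul_eq_mul]
      module
  have h := hmain q 1
  rw [hq, zero_smul, sub_zero, one_smul] at h
  exact h.2.2

omit hall in
/-- A root on a line `x ⊗ W` gives the orthogonal group. -/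
theorem Bl.omega_le [Finite F] (hn : 7 ≤ Fintype.card ι) (hb : 4 < finrank F Y) {x₀ : X} {u₀ w₀ : Y} (hx₀ : x₀ ≠ 0)
    (hu₀ : u₀ ≠ 0) (hw₀ : w₀ ∉ F ∙ u₀) (h0 : B₂ u₀ w₀ = 0) (he : InE Q M (m x₀ u₀) (m x₀ w₀)) :
    Cfsg.Geo.omegaGL ⇑Q ≤ M := by
  have hall : ∀ (x : X) (u w : Y), B₂ u w = 0 → InE Q M (m x u) (m x w) := fun x u w h =>
    H.spread hY hX hx₀ hu₀ hw₀ h0 he h
  obtain ⟨y, hy⟩ := H.s1.partner hx₀
  obtain ⟨q, hq⟩ := H.s2.partner hu₀
  have hy0 : y ≠ 0 := fun e => by simp [e] at hy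
  have hq0 : q ≠ 0 := fun e => by simp [e] at hq
  exact Orth.omega_le H.hN hn ((H.root hall hb hx₀ hu₀).all H.hN (H.root hall hb hy0 hq0)
    (by rw [H.pol, hy, hq, one_mul]; exact one_ne_zero))

omit hall in
/-- A root on a line `X ⊗ u` gives the orthogonal group. -/
theorem Bl.omega_le_flat [Finite F] (hn : 7 ≤ Fintype.card ι) (hb : 4 < finrank F Y) (ha : 2 < finrank F X)
    {u₀ : Y} {x₀ y₀ : X} (hu₀ : u₀ ≠ 0) (hx₀ : x₀ ≠ 0) (hy₀ : y₀ ∉ F ∙ x₀) (h0 : B₁ x₀ y₀ = 0)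
    (he : InE Q M (m x₀ u₀) (m y₀ u₀)) : Cfsg.Geo.omegaGL ⇑Q ≤ M := by
  have hall : ∀ (u : Y) (x y : X), B₁ x y = 0 → InE Q M (m.flip u x) (m.flip u y) := fun u x y h =>
    H.flip.spread hX hY hu₀ hx₀ hy₀ h0 he h
  classical
  obtain ⟨w, w', hs, hww⟩ := H.s2.pair_perp {u₀} (by simp; omega)
  refine H.omega_le hY hX hn hb hx₀ hu₀ (w₀ := w) (fun hm => ?_) (hs u₀ (by simp)).1
    (H.flip.flat hall ha u₀ w x₀)
  obtain ⟨c, rfl⟩ := Submodule.mem_span_singleton.mp hm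
  rw [map_smul, LinearMap.smul_apply, (hs u₀ (by simp)).2, smul_zero] at hww
  exact zero_ne_one hww

end Cfsg.Agent.Lib.TensorSp
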