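import Cfsg.Agent.Lib.TensorSp.WScalar

/-!
An element of the group stabilising some `A ⊗ β` lies in the Kronecker group.
-/

set_option autoImplicit false

namespace Cfsg.Agent.Lib.TensorSp

open Module Matrix QuadraticMap
open Cfsg.Agent.Lib.MaxSub (toVec toVec_dot exists_functional)
open Cfsg.Agent.Lib.MaxSub.Orth (iso_polar)
open Cfsg.Agent.Lib.ThreeTransp.Tensor
open scoped MatrixGroups Matrix Kronecker

attribute [-simp] QuadraticMap.polarBilin_apply_apply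

variable {a b : ℕ} {F : Type*} [Field F]
variable {Q : QuadraticForm F (Fin a × Fin b → F)} {B₁ : LinearMap.BilinForm F (Fin a → F)}
  {B₂ : LinearMap.BilinForm F (Fin b → F)} (S : Sys Q B₁ B₂)
include S

/-- A map commuting with every transvection up to scalars is scalar. -/
theorem Sys.comm_scalar {N : Matrix (Fin a) (Fin a) F}
    (h : ∀ v c, ∃ l : F, ∀ x, N *ᵥ ((sv S.bl.s1 v c).val *ᵥ x) - (sv S.bl.s1 v c).val *ᵥ (N *ᵥ x) =
      l • ((sv S.bl.s1 v c).val *ᵥ x)) : ∃ l : F, N = l • 1 := by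
  classical
  refine eq_smul_one fun v => ?_
  rcases eq_or_ne v 0 with rfl | hv
  · exact ⟨0, by simp⟩
  set μ := B₁ v (N *ᵥ v) with hμ
  have expand : ∀ c, ∀ x, (c * B₁ v x) • (N *ᵥ v) - (c * B₁ v (N *ᵥ x)) • v = (-(c * μ)) • (x + (c * B₁ v x) • v) := by
    intro c x
    obtain ⟨l, hl⟩ := h v c
    have h1 := hl v
    rw [sv_mulVec, S.bl.s1.self, mul_zero, zero_smul, add_zero, sv_mulVec, sub_add_cancel_left, ← neg_smul] at h1
    have hlv : -(c * μ) = l := smul_left_injective F hv h1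
    have h2 := hl x
    rw [sv_mulVec, sv_mulVec, Matrix.mulVec_add, Matrix.mulVec_smul] at h2
    rw [hlv]
    linear_combination (norm := module) h2
  obtain ⟨y, hy⟩ := S.bl.s1.partner hv
  have hμ0 : μ = 0 := by
    rcases Nat.lt_or_ge 2 a with ha | ha
    · obtain ⟨x, hx, hxn⟩ : ∃ x, B₁ v x = 0 ∧ x ∉ F ∙ v := by
        by_contra hc
        push Not at hc
        have h1 := (B₁ v).finrank_range_add_finrank_ker
        have h2 : finrank F (LinearMap.range (B₁ v)) ≤ 1 := (Submodule.finrank_le _).trans (finrank_self F).le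
        have h3 : finrank F (LinearMap.ker (B₁ v)) ≤ 1 :=
          (Submodule.finrank_mono (show LinearMap.ker (B₁ v) ≤ F ∙ v from fun z hz => hc z hz)).trans
            (finrank_span_singleton hv).le
        rw [Module.finrank_fin_fun] at h1
        omega
      by_contra hne
      have h1 := expand 1 x
      simp only [hx, mul_zero, zero_smul, add_zero, zero_sub, one_mul] at h1
      refine hxn (Submodule.mem_span_singleton.mpr ⟨B₁ v (N *ᵥ x) / μ, ?_⟩)
      rw [div_eq_inv_mul, mul_smul, inv_smul_eq_iff₀ hne]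
      linear_combination (norm := module) -h1
    · have hq : 2 < Nat.card F := S.hex.resolve_left (by omega)
      haveI : Finite F := Nat.finite_of_card_ne_zero (by omega)
      haveI := Fintype.ofFinite F
      obtain ⟨c, hc0, hc1⟩ : ∃ c : F, c ≠ 0 ∧ c ≠ 1 := by
        by_contra hc
        push Not at hc
        have : Finset.univ ⊆ ({0, 1} : Finset F) := fun x _ => by
          rcases eq_or_ne x 0 with rfl | hx
          · simp
          · simp [hc x hx]
        have h1 := Finset.card_le_card this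
        have h2 := Finset.card_le_two (a := (0 : F)) (b := 1)
        rw [Finset.card_univ, ← Nat.card_eq_fintype_card] at h1
        omega
      have h1 := expand 1 y
      have h2 := expand c y
      simp only [hy, mul_one, one_mul, one_smul] at h1 h2
      have h3 : (c * c - c) * μ = 0 := by
        refine smul_left_injective F hv ?_
        show ((c * c - c) * μ) • v = (0 : F) • v
        linear_combination (norm := module) h2 - c • h1
      rcases mul_eq_zero.mp h3 with h4 | h4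
      · refine absurd ?_ hc1
        exact mul_left_cancel₀ hc0 (by linear_combination h4)
      · exact h4
  refine ⟨B₁ v (N *ᵥ y), ?_⟩
  have h1 := expand 1 y
  simp only [hy, hμ0, mul_one, one_mul, one_smul, neg_zero, zero_smul] at h1
  exact sub_eq_zero.mp h1

variable {M : Subgroup (GL (Fin a × Fin b) F)} (G : Good S M)
include G

/-- An element stabilising some `A ⊗ β` lies in the Kronecker group. -/
theorem Good.mem_of_stab {s : GL (Fin a × Fin b) F} (hs : s ∈ M) {β : Fin b → F} (hβ : β ≠ 0)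
    (hst : ∀ x, ∃ y, s.val *ᵥ pure x β = pure y β) : s ∈ Cfsg.Geo.kroneckerSubgroup a b F := by
  classical
  obtain ⟨ξ, hξ⟩ := exists_dot_one hβ
  obtain ⟨β', hβ'⟩ := S.bl.s2.partner hβ
  have hsI := G.iso hs
  have hrow : row B₂ β ⬝ᵥ β = 0 := by rw [row_dot, S.bl.s2.self]
  -- the action on `A ⊗ β`
  let Aα : Matrix (Fin a) (Fin a) F := LinearMap.toMatrix' ((ctr ξ).comp ((Matrix.mulVecLin s.val).comp (left β)))
  have hAα : ∀ x, s.val *ᵥ pure x β = pure (Aα *ᵥ x) β := fun x => by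
    obtain ⟨y, hy⟩ := hst x
    rw [show Aα *ᵥ x = ctr ξ (s.val *ᵥ pure x β) by rw [← Matrix.toLin'_apply, Matrix.toLin'_toMatrix']; rfl, hy,
      ctr_pure, hξ, one_smul]
  have hAu : IsUnit Aα := by
    rw [← Matrix.mulVec_injective_iff_isUnit]
    intro x y e
    refine pure_left_cancel hβ (?_ : pure x β = pure y β)
    have h1 := congrArg ((s⁻¹ : GL (Fin a × Fin b) F).val *ᵥ ·)
      ((hAα x).trans ((congrArg (fun z => pure z β) e).trans (hAα y).symm))
    simpa only [mulVec_inv_mulVec] using h1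
  set α : GL (Fin a) F := hAu.unit with hα
  have hαv : α.val = Aα := rfl
  have hsi : ∀ x, (s⁻¹ : GL (Fin a × Fin b) F).val *ᵥ pure x β = pure ((α⁻¹ : GL (Fin a) F).val *ᵥ x) β := fun x => by
    have h1 : s.val *ᵥ pure ((α⁻¹ : GL (Fin a) F).val *ᵥ x) β = pure x β := by rw [hAα, ← hαv, mulVec_mulVec_inv]
    conv_lhs => rw [← h1, mulVec_inv_mulVec]
  have hpres : ∀ p y, B₁ (ctr (row B₂ β) (s.val *ᵥ p)) (Aα *ᵥ y) = B₁ (ctr (row B₂ β) p) y := fun p y => by
    have h1 := iso_polar hsI p (pure y β)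
    rw [hAα, S.polar_pure, S.polar_pure, neg_inj] at h1
    exact h1
  have hperp : ∀ p, ctr (row B₂ β) p = 0 → ctr (row B₂ β) (s.val *ᵥ p) = 0 := fun p hp => by
    refine S.bl.s1.nd.1 _ fun y => ?_
    obtain ⟨y, rfl⟩ := (Matrix.mulVec_surjective_iff_isUnit.mpr hAu) y
    rw [hpres, hp, map_zero, LinearMap.zero_apply]
  have hperp' : ∀ p, ctr (row B₂ β) p = 0 → ctr (row B₂ β) ((s⁻¹ : GL (Fin a × Fin b) F).val *ᵥ p) = 0 := fun p hp => by
    refine S.bl.s1.nd.1 _ fun y => ?_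
    rw [← hpres, mulVec_mulVec_inv, hp, map_zero, LinearMap.zero_apply]
  -- the central transvection
  have hT : ∀ p, (TB S β 1).val *ᵥ p = p + pure (ctr (row B₂ β) p) β := fun p => by
    have : TB S β 1 = T (a := a) β ((1 : F) • row B₂ β) (by rw [smul_dotProduct, hrow, smul_zero]) := rfl
    rw [this, T_mulVec, one_smul]
  have hσ1 : ∀ q, ((s * TB S β 1 * s⁻¹ : GL (Fin a × Fin b) F)).val *ᵥ q =
      q + pure (Aα *ᵥ ctr (row B₂ β) ((s⁻¹ : GL (Fin a × Fin b) F).val *ᵥ q)) β := fun q => by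
    rw [mulVec_mul, mulVec_mul, hT, Matrix.mulVec_add, mulVec_mulVec_inv, hAα]
  have hσM : s * TB S β 1 * s⁻¹ ∈ M := M.mul_mem (M.mul_mem hs (G.trB β 1)) (M.inv_mem hs)
  obtain ⟨C, hC, halt⟩ := S.zform (G.iso hσM) hβ fun x w hw => by
    rw [hσ1, hperp' _ (by rw [ctr_pure, row_dot, hw, zero_smul]), Matrix.mulVec_zero, pure_zero_left, add_zero]
  obtain ⟨l, rfl⟩ := G.zscalar S hσM hβ hC halt
  have hl : ∀ x u, l • ctr (row B₂ β) (s.val *ᵥ pure x u) = B₂ β u • (Aα *ᵥ x) := fun x u => by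
    have h1 := hC (s.val *ᵥ pure x u)
    rw [hσ1, mulVec_inv_mulVec, ctr_pure, row_dot, Matrix.smul_mulVec, Matrix.one_mulVec, Matrix.mulVec_smul] at h1
    exact (pure_left_cancel hβ (add_left_cancel h1)).symm
  have hl0 : l ≠ 0 := by
    intro e
    obtain ⟨x₀, hx₀⟩ : ∃ x₀ : Fin a → F, x₀ ≠ 0 :=
      ⟨Pi.single ⟨0, by have := S.ha; omega⟩ 1, by simp⟩
    have h1 := hl x₀ β'
    rw [e, zero_smul, hβ', one_smul] at h1
    exact hx₀ ((Matrix.mulVec_injective_iff_isUnit.mpr hAu) (h1.symm.trans (Matrix.mulVec_zero _).symm))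
  have hsim : ∀ x y, B₁ (Aα *ᵥ x) (Aα *ᵥ y) = l * B₁ x y := fun x y => by
    have h1 := hpres (pure x β') y
    rw [ctr_pure, row_dot, hβ', one_smul] at h1
    have h2 := hl x β'
    rw [hβ', one_smul] at h2
    rw [← h2, map_smul, LinearMap.smul_apply, h1, smul_eq_mul]
  -- the remaining functionals
  have hfun : ∀ z, B₂ β z = 0 → ∃ ψ : Fin b → F, ψ ⬝ᵥ β = 0 ∧
      ∀ x w, B₂ β w = 0 → ctr ψ (s.val *ᵥ pure x w) = B₂ z w • (Aα *ᵥ x) := by
    intro z hz
    obtain ⟨-, g, hg, hf, hp⟩ := G.W0_one S (β := β) z hz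
    have hgperp : ∀ p, ctr (row B₂ β) p = 0 → g.val *ᵥ p = p + pure (ctr (row B₂ z) p) β := fun p hp' => by
      rw [← Matrix.mulVecLin_apply]
      exact lin_perp (f := Matrix.mulVecLin g.val) (g := LinearMap.id + (left β).comp (ctr (row B₂ z))) hβ'
        (fun x w hw => by
          rw [Matrix.mulVecLin_apply, hp x w hw, Matrix.one_mulVec, LinearMap.add_apply, LinearMap.id_apply]
          show _ = _ + pure (ctr (row B₂ z) (pure x w)) β
          rw [ctr_pure, row_dot, pure_smul_left]) hp'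
    have hσfix : ∀ x, ((s * g * s⁻¹ : GL (Fin a × Fin b) F)).val *ᵥ pure x β = pure x β := fun x => by
      rw [mulVec_mul, mulVec_mul, hsi, hf, hAα, ← hαv, mulVec_mulVec_inv]
    have hσp : ∀ q, ctr (row B₂ β) q = 0 → ((s * g * s⁻¹ : GL (Fin a × Fin b) F)).val *ᵥ q =
        q + pure (Aα *ᵥ ctr (row B₂ z) ((s⁻¹ : GL (Fin a × Fin b) F).val *ᵥ q)) β := fun q hq => by
      rw [mulVec_mul, mulVec_mul, hgperp _ (hperp' q hq), Matrix.mulVec_add, mulVec_mulVec_inv, hAα]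
    obtain ⟨ψ, hψ, hψe⟩ := G.unip S (M.mul_mem (M.mul_mem hs hg) (M.inv_mem hs)) hβ hσfix fun x w hw =>
      ⟨_, hσp _ (by rw [ctr_pure, row_dot, hw, zero_smul])⟩
    refine ⟨ψ, hψ, fun x w hw => ?_⟩
    have hq := hperp (pure x w) (by rw [ctr_pure, row_dot, hw, zero_smul])
    have h1 := (hσp _ hq).symm.trans (hψe _ hq)
    rw [mulVec_inv_mulVec, ctr_pure, row_dot, Matrix.mulVec_smul] at h1
    exact (pure_left_cancel hβ (add_left_cancel h1)).symm
  -- normalisation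
  let i₀ : Fin a := ⟨0, by have := S.ha; omega⟩
  let e₀ : Fin a → F := Pi.single i₀ 1
  have he₀ : e₀ ⬝ᵥ e₀ = 1 := by simp [e₀]
  set s₁ : GL (Fin a × Fin b) F := kr (α⁻¹, (1 : GL (Fin b) F)) * s with hs₁
  have hctr : ∀ ρ p, ctr ρ (s₁.val *ᵥ p) = (α⁻¹ : GL (Fin a) F).val *ᵥ ctr ρ (s.val *ᵥ p) := fun ρ p => by
    rw [hs₁, mulVec_mul, ctr_kr]
    simp
  let H : Matrix (Fin b) (Fin b) F :=
    LinearMap.toMatrix' ((ctl e₀).comp ((Matrix.mulVecLin s₁.val).comp (right e₀)))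
  have hH : ∀ u, H *ᵥ u = ctl e₀ (s₁.val *ᵥ pure e₀ u) := fun u => by
    rw [← Matrix.toLin'_apply, Matrix.toLin'_toMatrix']; rfl
  have hHdot : ∀ (ρ : Fin b → F) u, ρ ⬝ᵥ H *ᵥ u = e₀ ⬝ᵥ ctr ρ (s₁.val *ᵥ pure e₀ u) := fun ρ u => by
    rw [hH]
    simp only [ctr, ctl, dotProduct, LinearMap.coe_mk, AddHom.coe_mk, Finset.mul_sum]
    rw [Finset.sum_comm]
    exact Finset.sum_congr rfl fun i _ => Finset.sum_congr rfl fun j _ => by ring
  have hs₁β : ∀ x, s₁.val *ᵥ pure x β = pure x β := fun x => by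
    rw [hs₁, mulVec_mul, hAα, kr_pure, ← hαv, mulVec_inv_mulVec, Units.val_one, Matrix.one_mulVec]
  have hHβ : H *ᵥ β = β := by rw [hH, hs₁β, ctl_pure, he₀, one_smul]
  have hαinv : ∀ x, (α⁻¹ : GL (Fin a) F).val *ᵥ (Aα *ᵥ x) = x := fun x => by rw [← hαv, mulVec_inv_mulVec]
  have hHperp : ∀ w, B₂ β w = 0 → B₂ β (H *ᵥ w) = 0 := fun w hw => by
    rw [← row_dot B₂, hHdot, hctr, hperp _ (by rw [ctr_pure, row_dot, hw, zero_smul]), Matrix.mulVec_zero,
      dotProduct_zero]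
  have hψH : ∀ z, B₂ β z = 0 → ∃ ψ : Fin b → F, ψ ⬝ᵥ β = 0 ∧
      ∀ x w, B₂ β w = 0 → ctr ψ (s₁.val *ᵥ pure x w) = B₂ z w • x ∧ ψ ⬝ᵥ H *ᵥ w = B₂ z w := fun z hz => by
    obtain ⟨ψ, h1, h2⟩ := hfun z hz
    refine ⟨ψ, h1, fun x w hw => ⟨by rw [hctr, h2 x w hw, Matrix.mulVec_smul, hαinv], ?_⟩⟩
    rw [hHdot, hctr, h2 _ w hw, Matrix.mulVec_smul, hαinv, dotProduct_smul, he₀, smul_eq_mul, mul_one]
  have hHker : ∀ w, B₂ β w = 0 → H *ᵥ w = 0 → w = 0 := fun w hw h0 => by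
    have hmem : w ∈ F ∙ β := by
      by_contra hn
      obtain ⟨z, hz, hz1⟩ := S.bl.s2.dual _ hn
      obtain ⟨ψ, -, h⟩ := hψH z (S.bl.s2.zero_swap (hz β (Submodule.mem_span_singleton_self β)))
      have := (h e₀ w hw).2
      rw [h0, dotProduct_zero, hz1] at this
      exact zero_ne_one this
    obtain ⟨c, rfl⟩ := Submodule.mem_span_singleton.mp hmem
    rw [Matrix.mulVec_smul, hHβ] at h0
    exact h0
  have hHsurj : ∀ r, B₂ β r = 0 → ∃ w, B₂ β w = 0 ∧ H *ᵥ w = r := by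
    let f : LinearMap.ker (B₂ β) →ₗ[F] LinearMap.ker (B₂ β) :=
      ((Matrix.mulVecLin H).comp (LinearMap.ker (B₂ β)).subtype).codRestrict _
        fun w => LinearMap.mem_ker.mpr (hHperp w.1 (LinearMap.mem_ker.mp w.2))
    have hf : Function.Surjective f := LinearMap.surjective_of_injective ((injective_iff_map_eq_zero f).mpr
      fun w hw => Subtype.ext (hHker w.1 (LinearMap.mem_ker.mp w.2) (congrArg Subtype.val hw)))
    intro r hr
    obtain ⟨w, hw⟩ := hf ⟨r, LinearMap.mem_ker.mpr hr⟩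
    exact ⟨w.1, LinearMap.mem_ker.mp w.2, congrArg Subtype.val hw⟩
  -- modulo `A ⊗ β` on the orthogonal space
  have hmodW : ∀ x w, B₂ β w = 0 → ∀ ρ : Fin b → F, ρ ⬝ᵥ β = 0 →
      ctr ρ (s₁.val *ᵥ pure x w) = (ρ ⬝ᵥ H *ᵥ w) • x := by
    intro x w hw ρ hρ
    let P : (Fin b → F) →ₗ[F] F := dotProductBilin F F ρ ∘ₗ Matrix.mulVecLin H
    obtain ⟨z, hz⟩ := exists_row S.bl.s2 (toVec P)
    have hz' : ∀ u, B₂ z u = ρ ⬝ᵥ H *ᵥ u := fun u => by rw [← row_dot B₂, hz, toVec_dot]; rfl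
    have hzβ : B₂ β z = 0 := S.bl.s2.zero_swap (by rw [hz', hHβ, hρ])
    obtain ⟨ψ, hψ, hψe⟩ := hψH z hzβ
    obtain ⟨r, hr⟩ := exists_row S.bl.s2 (ρ - ψ)
    have hrdot : ∀ u, B₂ r u = ρ ⬝ᵥ u - ψ ⬝ᵥ u := fun u => by rw [← row_dot B₂, hr, sub_dotProduct]
    have hrz : r ∈ F ∙ β := by
      by_contra hn
      obtain ⟨d, hd, hd1⟩ := S.bl.s2.dual _ hn
      obtain ⟨w', hw', rfl⟩ := hHsurj d (S.bl.s2.zero_swap (hd β (Submodule.mem_span_singleton_self β)))
      have h1 := S.bl.s2.swap r (H *ᵥ w')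
      rw [hd1, hrdot, (hψe e₀ w' hw').2, hz', sub_self, neg_zero] at h1
      exact one_ne_zero h1
    obtain ⟨c, hc⟩ := Submodule.mem_span_singleton.mp hrz
    have hρψ : ρ = ψ + c • row B₂ β := by
      refine dotProduct_eq _ _ fun u => ?_
      have := hrdot u
      rw [← hc, map_smul, LinearMap.smul_apply] at this
      rw [add_dotProduct, smul_dotProduct, row_dot]
      linear_combination -this
    have hψx := hψe x w hw
    have h0 : ctr (row B₂ β) (s₁.val *ᵥ pure x w) = 0 := by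
      rw [hctr, hperp _ (by rw [ctr_pure, row_dot, hw, zero_smul]), Matrix.mulVec_zero]
    have e : ctr ρ (s₁.val *ᵥ pure x w) = ctr ψ (s₁.val *ᵥ pure x w) + c • ctr (row B₂ β) (s₁.val *ᵥ pure x w) := by
      funext i
      simp [ctr, hρψ, Finset.mul_sum, ← Finset.sum_add_distrib, mul_add]
      exact Finset.sum_congr rfl fun j _ => by ring
    rw [e, h0, smul_zero, add_zero, hψx.1, hρψ, add_dotProduct, smul_dotProduct, row_dot, hHperp w hw, smul_zero,
      add_zero, hψx.2]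
  -- from a congruence to an equation
  have hexact : ∀ u, (∀ x, ∀ ρ : Fin b → F, ρ ⬝ᵥ β = 0 → ctr ρ (s₁.val *ᵥ pure x u) = (ρ ⬝ᵥ H *ᵥ u) • x) →
      (∀ N : Matrix (Fin a) (Fin a) F, (∀ x, s₁.val *ᵥ pure x u = pure x (H *ᵥ u) + pure (N *ᵥ x) β) →
        ∃ l : F, N = l • 1) → ∀ x, s₁.val *ᵥ pure x u = pure x (H *ᵥ u) := by
    intro u hmod hsc x
    let N : Matrix (Fin a) (Fin a) F := LinearMap.toMatrix'
      ((ctr ξ).comp ((Matrix.mulVecLin s₁.val).comp (left u) - left (H *ᵥ u)))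
    have hN : ∀ x, s₁.val *ᵥ pure x u = pure x (H *ᵥ u) + pure (N *ᵥ x) β := fun x => by
      rw [← sub_eq_iff_eq_add', show N *ᵥ x = ctr ξ (s₁.val *ᵥ pure x u - pure x (H *ᵥ u)) by
        rw [← Matrix.toLin'_apply, Matrix.toLin'_toMatrix']; rfl]
      exact eq_smul_of_ctr hξ fun ρ hρ => by rw [map_sub, hmod x ρ hρ, ctr_pure, sub_self]
    obtain ⟨c, hc⟩ := hsc N hN
    have h1 := congrArg (ctl e₀) (hN e₀)
    rw [← hH, map_add, ctl_pure, ctl_pure, he₀, one_smul, left_eq_add, hc, Matrix.smul_mulVec, Matrix.one_mulVec,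
      dotProduct_smul, he₀, smul_eq_mul, mul_one, smul_eq_zero, or_iff_left hβ] at h1
    rw [hN, hc, h1, zero_smul, Matrix.zero_mulVec, pure_zero_left, add_zero]
  -- commutation with the transvections
  have hsk : ∀ (v : Fin a → F) (c : F), ∃ σ ∈ M, (∀ x, σ.val *ᵥ pure x β = pure x β) ∧
      ∀ (N : Matrix (Fin a) (Fin a) F) u, (∀ x, s₁.val *ᵥ pure x u = pure x (H *ᵥ u) + pure (N *ᵥ x) β) → ∀ x,
        σ.val *ᵥ pure (Aα *ᵥ ((sv S.bl.s1 v c).val *ᵥ x)) (H *ᵥ u) =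
          pure (Aα *ᵥ ((sv S.bl.s1 v c).val *ᵥ x)) (H *ᵥ u) +
            pure (Aα *ᵥ (N *ᵥ ((sv S.bl.s1 v c).val *ᵥ x) - (sv S.bl.s1 v c).val *ᵥ (N *ᵥ x))) β := by
    intro v c
    have hcomm : ∀ x, (sv S.bl.s1 (Aα *ᵥ v) (c / l)).val *ᵥ (Aα *ᵥ x) = Aα *ᵥ ((sv S.bl.s1 v c).val *ᵥ x) :=
      fun x => by
        rw [sv_mulVec, sv_mulVec, hsim, Matrix.mulVec_add, Matrix.mulVec_smul]
        congr 2
        field_simp
    set σ := s * TA S v c * s⁻¹ * (TA S (Aα *ᵥ v) (c / l))⁻¹ with hσ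
    have hσM : σ ∈ M := M.mul_mem (M.mul_mem (M.mul_mem hs (G.trA v c)) (M.inv_mem hs)) (M.inv_mem (G.trA _ _))
    have hσe : ∀ p, σ.val *ᵥ ((TA S (Aα *ᵥ v) (c / l)).val *ᵥ (s.val *ᵥ p)) = s.val *ᵥ ((TA S v c).val *ᵥ p) :=
      fun p => by rw [hσ, mulVec_mul, mulVec_inv_mulVec, mulVec_mul, mulVec_inv_mulVec, mulVec_mul]
    have hTA : ∀ (v : Fin a → F) (c : F) x u, (TA S v c).val *ᵥ pure x u = pure ((sv S.bl.s1 v c).val *ᵥ x) u :=
      fun v c x u => by rw [TA, kr_pure, Units.val_one, Matrix.one_mulVec]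
    have hss : ∀ p, s.val *ᵥ p = (kr (α, (1 : GL (Fin b) F))).val *ᵥ (s₁.val *ᵥ p) := fun p => by
      rw [hs₁, ← mulVec_mul (kr (α, (1 : GL (Fin b) F))), ← mul_assoc, ← map_mul]
      simp [Prod.mk_one_one]
    have hσfix : ∀ x, σ.val *ᵥ pure x β = pure x β := fun x => by
      obtain ⟨y, rfl⟩ := (Matrix.mulVec_surjective_iff_isUnit.mpr hAu) x
      obtain ⟨z, rfl⟩ : ∃ z, (sv S.bl.s1 v c).val *ᵥ z = y := ⟨_, mulVec_mulVec_inv _ y⟩
      have h1 := hσe (pure z β)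
      rwa [hAα, hTA, hTA, hAα, hcomm] at h1
    refine ⟨σ, hσM, hσfix, fun N u hN x => ?_⟩
    have h1 := hσe (pure x u)
    simp only [hss, hTA, hN, Matrix.mulVec_add, kr_pure, Units.val_one, Matrix.one_mulVec, hαv, hcomm, hσfix] at h1
    rw [Matrix.mulVec_sub, pure_sub_left]
    linear_combination (norm := module) h1
  have hW : ∀ w, B₂ β w = 0 → ∀ x, s₁.val *ᵥ pure x w = pure x (H *ᵥ w) := fun w hw =>
    hexact w (fun x ρ hρ => hmodW x w hw ρ hρ) fun N hN => S.comm_scalar fun v c => by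
      obtain ⟨σ, hσ, hσf, hσe⟩ := hsk v c
      obtain ⟨ψ, hψ, hψe⟩ := G.unip S hσ hβ hσf fun y r hr => by
        obtain ⟨w', hw', rfl⟩ := hHsurj r hr
        let N' : Matrix (Fin a) (Fin a) F := LinearMap.toMatrix'
          ((ctr ξ).comp ((Matrix.mulVecLin s₁.val).comp (left w') - left (H *ᵥ w')))
        have hN' : ∀ x, s₁.val *ᵥ pure x w' = pure x (H *ᵥ w') + pure (N' *ᵥ x) β := fun x => by
          rw [← sub_eq_iff_eq_add', show N' *ᵥ x = ctr ξ (s₁.val *ᵥ pure x w' - pure x (H *ᵥ w')) by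
            rw [← Matrix.toLin'_apply, Matrix.toLin'_toMatrix']; rfl]
          exact eq_smul_of_ctr hξ fun ρ hρ => by rw [map_sub, hmodW x w' hw' ρ hρ, ctr_pure, sub_self]
        obtain ⟨y₁, rfl⟩ := (Matrix.mulVec_surjective_iff_isUnit.mpr hAu) y
        obtain ⟨z, rfl⟩ : ∃ z, (sv S.bl.s1 v c).val *ᵥ z = y₁ := ⟨_, mulVec_mulVec_inv _ y₁⟩
        exact ⟨_, hσe N' w' hN' z⟩
      refine ⟨ψ ⬝ᵥ H *ᵥ w, fun x => ?_⟩
      have h1 := (hσe N w hN x).symm.trans (hψe _ (by rw [ctr_pure, row_dot, hHperp w hw, zero_smul]))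
      rw [ctr_pure, ← Matrix.mulVec_smul] at h1
      exact (Matrix.mulVec_injective_iff_isUnit.mpr hAu) (pure_left_cancel hβ (add_left_cancel h1))
  have htop : ∀ x, s₁.val *ᵥ pure x β' = pure x (H *ᵥ β') := by
    refine hexact β' (fun x ρ hρ => ?_) fun N hN => S.comm_scalar fun v c => ?_
    · obtain ⟨r, rfl⟩ := exists_row S.bl.s2 ρ
      rw [row_dot] at hρ
      obtain ⟨w, hw, rfl⟩ := hHsurj r (S.bl.s2.zero_swap hρ)
      have key : ∀ x, ctr (row B₂ (H *ᵥ w)) (s₁.val *ᵥ pure x β') = (B₂ w β' / l) • x := by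
        intro x
        rw [hctr]
        suffices h1 : ctr (row B₂ (H *ᵥ w)) (s.val *ᵥ pure x β') = (B₂ w β' / l) • (Aα *ᵥ x) by
          rw [h1, Matrix.mulVec_smul, hαinv]
        rw [← sub_eq_zero]
        refine S.bl.s1.nd.1 _ fun y => ?_
        obtain ⟨y, rfl⟩ := (Matrix.mulVec_surjective_iff_isUnit.mpr hAu) y
        have h2 := iso_polar hsI (pure x β') (pure y w)
        have h3 : s.val *ᵥ pure y w = pure (Aα *ᵥ y) (H *ᵥ w) := by
          have h4 := congrArg ((kr (α, (1 : GL (Fin b) F))).val *ᵥ ·) (hW w hw y)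
          simpa only [hs₁, ← mulVec_mul (kr (α, (1 : GL (Fin b) F))), ← mul_assoc, ← map_mul, Prod.mk_mul_mk,
            mul_inv_cancel, mul_one, Prod.mk_one_one, map_one, one_mul, kr_pure, Units.val_one, Matrix.one_mulVec,
            hαv] using h4
        rw [h3, S.polar_pure, S.pol, S.bl.s2.swap w β'] at h2
        rw [map_sub, map_smul, LinearMap.sub_apply, LinearMap.smul_apply, hsim, smul_eq_mul]
        field_simp
        linear_combination -h2
      rw [key, hHdot, key, dotProduct_smul, he₀, smul_eq_mul, mul_one]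
    · obtain ⟨σ, hσ, hσf, hσe⟩ := hsk v c
      obtain ⟨C', hC', halt'⟩ := S.zform (G.iso hσ) hβ fun y r hr => by
        obtain ⟨w', hw', rfl⟩ := hHsurj r hr
        obtain ⟨y₁, rfl⟩ := (Matrix.mulVec_surjective_iff_isUnit.mpr hAu) y
        obtain ⟨z, rfl⟩ : ∃ z, (sv S.bl.s1 v c).val *ᵥ z = y₁ := ⟨_, mulVec_mulVec_inv _ y₁⟩
        rw [hσe 0 w' (fun x => by rw [hW w' hw', Matrix.zero_mulVec, pure_zero_left, add_zero]) z]
        simp [pure_zero_left]
      obtain ⟨c', rfl⟩ := G.zscalar S hσ hβ hC' halt'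
      refine ⟨c' * B₂ β (H *ᵥ β'), fun x => ?_⟩
      have h1 := (hσe N β' hN x).symm.trans (hC' _)
      rw [ctr_pure, row_dot, Matrix.smul_mulVec, Matrix.one_mulVec, smul_smul, ← Matrix.mulVec_smul] at h1
      exact (Matrix.mulVec_injective_iff_isUnit.mpr hAu) (pure_left_cancel hβ (add_left_cancel h1))
  have hall : ∀ x u, s₁.val *ᵥ pure x u = pure x (H *ᵥ u) := fun x u => by
    have h1 := hW (u - B₂ β u • β') (by rw [map_sub, map_smul, hβ', smul_eq_mul, mul_one, sub_self]) x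
    rw [Matrix.mulVec_sub, Matrix.mulVec_smul, pure_sub_right, pure_smul_right, Matrix.mulVec_sub, Matrix.mulVec_smul,
      htop, pure_sub_right, pure_smul_right, sub_left_inj] at h1
    exact h1
  have hHu : IsUnit H := by
    rw [← Matrix.mulVec_injective_iff_isUnit]
    refine (injective_iff_map_eq_zero (Matrix.mulVecLin H)).mpr fun u hu => ?_
    have h1 := hall e₀ u
    rw [show H *ᵥ u = 0 from hu, pure_zero_right] at h1
    have h2 := congrArg ((s₁⁻¹ : GL (Fin a × Fin b) F).val *ᵥ ·) h1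
    simp only [mulVec_inv_mulVec, Matrix.mulVec_zero] at h2
    by_contra hu0
    exact pure_ne_zero (show e₀ ≠ 0 by simp [e₀]) hu0 h2
  refine mem_kronecker.mpr ⟨(α, hHu.unit), ?_⟩
  have e : s = kr (α, (1 : GL (Fin b) F)) * s₁ := by
    rw [hs₁, ← mul_assoc, ← map_mul]
    simp [Prod.mk_one_one]
  rw [e]
  refine Units.ext (eq_of_pure fun x u => ?_)
  rw [mulVec_mul, hall, kr_pure, kr_pure, Units.val_one, Matrix.one_mulVec]
  rfl

end Cfsg.Agent.Lib.TensorSp
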