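import Cfsg.Agent.Lib.TensorSp.Base

/-!
Elements of the group in the unipotent radical of the stabiliser of `A ⊗ β`: without roots on pure lines they act by
scalars on the first factor.
-/

set_option autoImplicit false

namespace Cfsg.Agent.Lib.TensorSp

open Module Matrix QuadraticMap
open Cfsg.Agent.Lib.MaxSub (exists_functional toVec toVec_dot eq_of_mulVec_eq)
open Cfsg.Agent.Lib.MaxSub.Orth (eichGL eichGL_mulVec iso_quad iso_polar toGL_mem_isometry)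
open Cfsg.Agent.Lib.MaxSub.OrthSplit (InE)
open Cfsg.Agent.Lib.ThreeTransp.Tensor
open Cfsg.Agent.Lib.Geometry (quad_add quad_smul quad_polar_comm)
open scoped MatrixGroups Matrix Kronecker

attribute [-simp] QuadraticMap.polarBilin_apply_apply

variable {a b : ℕ} {F : Type*} [Field F]
variable {Q : QuadraticForm F (Fin a × Fin b → F)} {B₁ : LinearMap.BilinForm F (Fin a → F)}
  {B₂ : LinearMap.BilinForm F (Fin b → F)} (S : Sys Q B₁ B₂)
include S

/-- No roots on pure lines. -/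
structure Good (M : Subgroup (GL (Fin a × Fin b) F)) : Prop extends Grp S M where
  noW : ∀ x u w, x ≠ 0 → u ≠ 0 → w ∉ F ∙ u → B₂ u w = 0 → ¬ InE Q M (pure x u) (pure x w)
  noX : ∀ x y u, u ≠ 0 → x ≠ 0 → y ∉ F ∙ x → B₁ x y = 0 → ¬ InE Q M (pure x u) (pure y u)

theorem Sys.TA_inv_pure (v : Fin a → F) (c : F) (x : Fin a → F) (u : Fin b → F) :
    ((TA S v c)⁻¹ : GL (Fin a × Fin b) F).val *ᵥ pure x u = pure (x - (c * B₁ v x) • v) u := by
  rw [TA, ← map_inv, kr_pure]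
  simp only [Prod.fst_inv, Prod.snd_inv, inv_one, Units.val_one, Matrix.one_mulVec, sv_inv_mulVec]

theorem Sys.TB_inv_pure (v : Fin b → F) (c : F) (x : Fin a → F) (u : Fin b → F) :
    ((TB S v c)⁻¹ : GL (Fin a × Fin b) F).val *ᵥ pure x u = pure x (u - (c * B₂ v u) • v) := by
  rw [TB, ← map_inv, kr_pure]
  simp only [Prod.fst_inv, Prod.snd_inv, inv_one, Units.val_one, Matrix.one_mulVec, sv_inv_mulVec]

theorem Sys.iso_eich {p q : Fin a × Fin b → F} (hp : Q p = 0) (hq : polarBilin Q p q = 0) :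
    eichGL Q p q hp hq ∈ Cfsg.isometryGroup F ⇑Q := toGL_mem_isometry Q _

omit S in
/-- `g` moves only by multiples in `A ⊗ β` of the `β`-coordinate. -/
def ZEl (B₂ : LinearMap.BilinForm F (Fin b → F)) (g : GL (Fin a × Fin b) F) (β : Fin b → F)
    (C : Matrix (Fin a) (Fin a) F) : Prop :=
  ∀ q, g.val *ᵥ q = q + pure (C *ᵥ ctr (row B₂ β) q) β

omit S in
theorem ZEl.pure_eq {g : GL (Fin a × Fin b) F} {β : Fin b → F} {C : Matrix (Fin a) (Fin a) F} (h : ZEl B₂ g β C)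
    (x : Fin a → F) (u : Fin b → F) : g.val *ᵥ pure x u = pure x u + B₂ β u • pure (C *ᵥ x) β := by
  rw [h, ctr_pure, row_dot, Matrix.mulVec_smul, pure_smul_left]

/-- An isometry fixing `A ⊗ β⊥`. -/
theorem Sys.zform {g : GL (Fin a × Fin b) F} (hg : g ∈ Cfsg.isometryGroup F ⇑Q) {β : Fin b → F} (hβ : β ≠ 0)
    (hfix : ∀ x w, B₂ β w = 0 → g.val *ᵥ pure x w = pure x w) :
    ∃ C, ZEl B₂ g β C ∧ ∀ x, B₁ x (C *ᵥ x) = 0 := by
  obtain ⟨β', hβ'⟩ := S.bl.s2.partner hβ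
  obtain ⟨ξ, hξ⟩ := exists_dot_one hβ
  let D : (Fin a × Fin b → F) →ₗ[F] (Fin a × Fin b → F) := Matrix.mulVecLin g.val - LinearMap.id
  let C : Matrix (Fin a) (Fin a) F := LinearMap.toMatrix' ((ctr ξ).comp (D.comp (left β')))
  have hD : ∀ q, D q = g.val *ᵥ q - q := fun q => rfl
  have hC : ∀ x, C *ᵥ x = ctr ξ (D (pure x β')) := fun x => by
    rw [← Matrix.toLin'_apply, Matrix.toLin'_toMatrix']; rfl
  have h1 : ∀ x, D (pure x β') = pure (C *ᵥ x) β := fun x => by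
    rw [hC]
    refine S.eq_pure hξ fun y w hw => ?_
    rw [hD, map_sub, LinearMap.sub_apply, sub_eq_zero]
    conv_lhs => rw [← hfix y w hw]
    exact iso_polar hg _ _
  have hz : ZEl B₂ g β C := fun q => by
    have h2 : D q = ((left β).comp ((Matrix.mulVecLin C).comp (ctr (row B₂ β)))) q := lin_ext (fun x u => by
      have h3 : D (pure x (u - B₂ β u • β')) = 0 := by
        rw [hD, hfix _ _ (by rw [map_sub, map_smul, hβ', smul_eq_mul, mul_one, sub_self]), sub_self]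
      rw [pure_sub_right, pure_smul_right, map_sub, map_smul, sub_eq_zero, h1] at h3
      rw [h3, LinearMap.comp_apply, LinearMap.comp_apply, Matrix.mulVecLin_apply, ctr_pure, row_dot,
        Matrix.mulVec_smul, map_smul]
      rfl) q
    rw [hD, sub_eq_iff_eq_add'] at h2
    exact h2
  refine ⟨C, hz, fun x => ?_⟩
  have h4 := iso_quad hg (pure x β')
  rw [hz.pure_eq, hβ', one_smul, quad_add, S.quad, S.quad, S.pol, S.bl.s2.swap β β', hβ'] at h4
  simpa using h4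

variable {M : Subgroup (GL (Fin a × Fin b) F)} (G : Good S M)
include G

/-- The part fixing `A ⊗ β⊥` is scalar. -/
theorem Good.zscalar {g : GL (Fin a × Fin b) F} (hg : g ∈ M) {β : Fin b → F} (hβ : β ≠ 0)
    {C : Matrix (Fin a) (Fin a) F} (hz : ZEl B₂ g β C) (halt : ∀ x, B₁ x (C *ᵥ x) = 0) : ∃ l : F, C = l • 1 := by
  refine eq_smul_one fun v => ?_
  by_contra hns
  push Not at hns
  have hsa : ∀ x, B₁ (C *ᵥ v) x = B₁ v (C *ᵥ x) := fun x => by
    have h1 := halt (x + v)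
    simp only [Matrix.mulVec_add, map_add, LinearMap.add_apply, halt, zero_add, add_zero,
      S.bl.s1.swap (C *ᵥ v) x] at h1
    linear_combination -h1
  have hp : polarBilin Q (pure v β) (pure (-(C *ᵥ v)) β) = 0 := by rw [S.pol, S.bl.s2.self, mul_zero]
  have hgi : ∀ x u, (g⁻¹ : GL (Fin a × Fin b) F).val *ᵥ pure x u = pure x u - B₂ β u • pure (C *ᵥ x) β := by
    intro x u
    have h1 : g.val *ᵥ (pure x u - B₂ β u • pure (C *ᵥ x) β) = pure x u := by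
      rw [Matrix.mulVec_sub, Matrix.mulVec_smul, hz.pure_eq, hz.pure_eq, S.bl.s2.self, zero_smul, add_zero,
        add_sub_cancel_right]
    conv_lhs => rw [← h1, mulVec_inv_mulVec]
  refine G.noX v (-(C *ᵥ v)) β hβ (fun e => hns 0 (by simp [e])) (fun hm => ?_) (by rw [map_neg, halt, neg_zero])
    ⟨S.quad _ _, hp, ?_⟩
  · obtain ⟨c, hc⟩ := Submodule.mem_span_singleton.mp hm
    exact hns (-c) (by rw [neg_smul, hc, neg_neg])
  convert M.mul_mem (M.mul_mem (M.mul_mem (G.trA v 1) hg) (M.inv_mem (G.trA v 1))) (M.inv_mem hg) using 1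
  refine Units.ext (eq_of_pure fun x u => ?_)
  rw [eichGL_mulVec, S.quad, S.pol, S.pol, mulVec_mul, mulVec_mul, mulVec_mul, hgi, Matrix.mulVec_sub,
    Matrix.mulVec_smul, S.TA_inv_pure, S.TA_inv_pure, Matrix.mulVec_sub, Matrix.mulVec_smul, hz.pure_eq, hz.pure_eq,
    S.bl.s2.self, zero_smul, add_zero, Matrix.mulVec_sub, Matrix.mulVec_add, Matrix.mulVec_smul, Matrix.mulVec_smul,
    S.TA_pure, S.TA_pure, S.TA_pure]
  simp only [map_neg, map_add, map_sub, map_smul, Matrix.mulVec_sub, Matrix.mulVec_smul, S.bl.s1.self, smul_zero,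
    halt, one_mul, smul_eq_mul, mul_zero, pure_add_left, pure_smul_left, S.bl.s1.swap v x, S.bl.s1.swap (C *ᵥ v) x,
    S.bl.s2.swap β u, hsa, pure_neg_left, pure_sub_left]
  module

omit G in
/-- `K` occurs at `z` in the group. -/
def InW (B₂ : LinearMap.BilinForm F (Fin b → F)) (M : Subgroup (GL (Fin a × Fin b) F)) (β : Fin b → F)
    (K : Matrix (Fin a) (Fin a) F) (z : Fin b → F) : Prop :=
  B₂ β z = 0 ∧ ∃ g ∈ M, (∀ x, g.val *ᵥ pure x β = pure x β) ∧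
    ∀ x w, B₂ β w = 0 → g.val *ᵥ pure x w = pure x w + B₂ z w • pure (K *ᵥ x) β

omit S G in
/-- `K` occurs everywhere. -/
def W0 (B₂ : LinearMap.BilinForm F (Fin b → F)) (M : Subgroup (GL (Fin a × Fin b) F)) (β : Fin b → F)
    (K : Matrix (Fin a) (Fin a) F) : Prop :=
  ∀ z, B₂ β z = 0 → InW B₂ M β K z

omit S G in
theorem inv_perp {g : GL (Fin a × Fin b) F} {β z : Fin b → F} {K : Matrix (Fin a) (Fin a) F}
    (hfix : ∀ x, g.val *ᵥ pure x β = pure x β) {x : Fin a → F} {w : Fin b → F}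
    (h : g.val *ᵥ pure x w = pure x w + B₂ z w • pure (K *ᵥ x) β) :
    (g⁻¹ : GL (Fin a × Fin b) F).val *ᵥ pure x w = pure x w - B₂ z w • pure (K *ᵥ x) β := by
  have h1 : g.val *ᵥ (pure x w - B₂ z w • pure (K *ᵥ x) β) = pure x w := by
    rw [Matrix.mulVec_sub, Matrix.mulVec_smul, h, hfix, add_sub_cancel_right]
  conv_lhs => rw [← h1, mulVec_inv_mulVec]

omit G in
theorem InW.sub {β z z' : Fin b → F} {K K' : Matrix (Fin a) (Fin a) F} (h : InW B₂ M β K z)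
    (h' : InW B₂ M β K' z') :
    ∃ g ∈ M, (∀ x, g.val *ᵥ pure x β = pure x β) ∧ ∀ x w, B₂ β w = 0 →
      g.val *ᵥ pure x w = pure x w + (B₂ z w • pure (K *ᵥ x) β - B₂ z' w • pure (K' *ᵥ x) β) := by
  obtain ⟨-, g, hg, hf, hp⟩ := h
  obtain ⟨-, g', hg', hf', hp'⟩ := h'
  refine ⟨g * g'⁻¹, M.mul_mem hg (M.inv_mem hg'), fun x => ?_, fun x w hw => ?_⟩
  · rw [mulVec_mul]
    conv_lhs => rw [← hf' x, mulVec_inv_mulVec]
    exact hf x
  · rw [mulVec_mul, inv_perp hf' (hp' x w hw), Matrix.mulVec_sub, Matrix.mulVec_smul, hf, hp x w hw]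
    abel

omit G in
theorem InW.sub_left {β z z' : Fin b → F} {K : Matrix (Fin a) (Fin a) F} (h : InW B₂ M β K z)
    (h' : InW B₂ M β K z') : InW B₂ M β K (z - z') := by
  obtain ⟨g, hg, hf, hp⟩ := InW.sub S h h'
  refine ⟨by rw [map_sub, h.1, h'.1, sub_self], g, hg, hf, fun x w hw => ?_⟩
  rw [hp x w hw, map_sub, LinearMap.sub_apply, sub_smul]

omit G in
theorem InW.sub_map {β z : Fin b → F} {K K' : Matrix (Fin a) (Fin a) F} (h : InW B₂ M β K z)
    (h' : InW B₂ M β K' z) : InW B₂ M β (K - K') z := by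
  obtain ⟨g, hg, hf, hp⟩ := InW.sub S h h'
  refine ⟨h.1, g, hg, hf, fun x w hw => ?_⟩
  rw [hp x w hw, Matrix.sub_mulVec, pure_sub_left, smul_sub]

/-- One occurrence gives all. -/
theorem Good.spreadW {β z : Fin b → F} {K : Matrix (Fin a) (Fin a) F} (h : InW B₂ M β K z) (hz : z ∉ F ∙ β) :
    W0 B₂ M β K := fun y hy => by
  refine S.bl.s2.perp_gen (fun p => InW B₂ M β K p) (fun p q hp hq => InW.sub_left S hp hq) (fun v c p hv hp hp' => ?_)
    h h.1 hz hy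
  obtain ⟨-, g, hg, hf, hg'⟩ := hp'
  refine ⟨by rw [map_add, map_smul, hp, hv, smul_zero, add_zero], TB S v c * g * (TB S v c)⁻¹,
    M.mul_mem (M.mul_mem (G.trB v c) hg) (M.inv_mem (G.trB v c)), fun x => ?_, fun x w hw => ?_⟩
  · rw [mulVec_mul, mulVec_mul, S.TB_inv_pure, S.bl.s2.zero_swap hv, mul_zero, zero_smul, sub_zero, hf, S.TB_pure,
      S.bl.s2.zero_swap hv, mul_zero, zero_smul, add_zero]
  · rw [mulVec_mul, mulVec_mul, S.TB_inv_pure, hg' x _ (by rw [map_sub, map_smul, hw, hv, smul_zero, sub_zero]),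
      Matrix.mulVec_add, Matrix.mulVec_smul, S.TB_pure, S.TB_pure, S.bl.s2.zero_swap hv, mul_zero, zero_smul,
      add_zero]
    congr 1
    · rw [map_sub, map_smul, S.bl.s2.self, smul_zero, sub_zero, sub_add_cancel]
    · rw [show B₂ p (w - (c * B₂ v w) • v) = B₂ (p + (c * B₂ v p) • v) w by
        simp only [map_sub, map_add, map_smul, LinearMap.add_apply, LinearMap.smul_apply, smul_eq_mul,
          S.bl.s2.swap p v]
        ring]

omit G in
theorem W0.sub {β : Fin b → F} {K K' : Matrix (Fin a) (Fin a) F} (h : W0 B₂ M β K) (h' : W0 B₂ M β K') :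
    W0 B₂ M β (K - K') := fun z hz => InW.sub_map S (h z hz) (h' z hz)

omit S G in
theorem W0.smul {β : Fin b → F} {K : Matrix (Fin a) (Fin a) F} (h : W0 B₂ M β K) (c : F) :
    W0 B₂ M β (c • K) := fun z hz => by
  obtain ⟨-, g, hg, hf, hp⟩ := h (c • z) (by rw [map_smul, hz, smul_zero])
  refine ⟨hz, g, hg, hf, fun x w hw => ?_⟩
  rw [hp x w hw, map_smul, LinearMap.smul_apply, smul_eq_mul, Matrix.smul_mulVec, pure_smul_left, smul_smul, mul_comm]

theorem W0.delta {β : Fin b → F} {K : Matrix (Fin a) (Fin a) F} (h : W0 B₂ M β K) (v : Fin a → F) (c : F) :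
    W0 B₂ M β ((sv S.bl.s1 v c).val * K * ((sv S.bl.s1 v c)⁻¹ : GL (Fin a) F).val - K) := by
  refine W0.sub S (fun z hz => ?_) h
  obtain ⟨-, g, hg, hf, hp⟩ := h z hz
  refine ⟨hz, TA S v c * g * (TA S v c)⁻¹, M.mul_mem (M.mul_mem (G.trA v c) hg) (M.inv_mem (G.trA v c)),
    fun x => ?_, fun x w hw => ?_⟩
  · rw [mulVec_mul, mulVec_mul, S.TA_inv_pure, hf, S.TA_pure, ← sv_mulVec S.bl.s1, ← sv_inv_mulVec S.bl.s1,
      mulVec_mulVec_inv]
  · rw [mulVec_mul, mulVec_mul, S.TA_inv_pure, hp _ w hw, Matrix.mulVec_add, Matrix.mulVec_smul, S.TA_pure,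
      S.TA_pure, ← sv_mulVec S.bl.s1, ← sv_mulVec S.bl.s1, ← sv_inv_mulVec S.bl.s1, mulVec_mulVec_inv,
      Matrix.mulVec_mulVec, Matrix.mulVec_mulVec, Matrix.mul_assoc]

/-- The identity occurs everywhere. -/
theorem Good.W0_one {β : Fin b → F} : W0 B₂ M β 1 := fun z hz => by
  refine ⟨hz, TB S (β + z) 1 * (TB S z 1)⁻¹ * (TB S β 1)⁻¹,
    M.mul_mem (M.mul_mem (G.trB _ _) (M.inv_mem (G.trB _ _))) (M.inv_mem (G.trB _ _)), fun x => ?_, fun x w hw => ?_⟩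
  · rw [mulVec_mul, mulVec_mul, S.TB_inv_pure, S.TB_inv_pure, S.TB_pure]
    simp [S.bl.s2.self, S.bl.s2.zero_swap hz]
  · rw [mulVec_mul, mulVec_mul, S.TB_inv_pure, hw, mul_zero, zero_smul, sub_zero, S.TB_inv_pure, S.TB_pure,
      Matrix.one_mulVec, ← pure_smul_right, ← pure_add_right]
    congr 1
    simp only [map_add, map_sub, map_smul, LinearMap.add_apply, hw, hz, S.bl.s2.self, smul_zero, sub_zero, mul_zero,
      one_mul, zero_add]
    module

omit G in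
theorem Sys.adjoint (K : Matrix (Fin a) (Fin a) F) :
    ∃ K' : Matrix (Fin a) (Fin a) F, ∀ x y, B₁ (K' *ᵥ x) y = B₁ x (K *ᵥ y) := by
  refine ⟨LinearMap.toMatrix' (B₁.leftAdjointOfNondegenerate S.bl.s1.nd (Matrix.toLin' K)), fun x y => ?_⟩
  rw [← Matrix.toLin'_apply, Matrix.toLin'_toMatrix', ← Matrix.toLin'_apply K]
  exact LinearMap.BilinForm.isAdjointPairLeftAdjointOfNondegenerate B₁ S.bl.s1.nd (Matrix.toLin' K) x y

omit G in
/-- The shape of an element on all vectors. -/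
theorem Sys.wform {g : GL (Fin a × Fin b) F} (hg : g ∈ Cfsg.isometryGroup F ⇑Q) {β z : Fin b → F} (hβ : β ≠ 0)
    (hz : B₂ β z = 0) {K K' : Matrix (Fin a) (Fin a) F} (hK : ∀ x y, B₁ (K' *ᵥ x) y = B₁ x (K *ᵥ y))
    (hfix : ∀ x, g.val *ᵥ pure x β = pure x β)
    (hp : ∀ x w, B₂ β w = 0 → g.val *ᵥ pure x w = pure x w + B₂ z w • pure (K *ᵥ x) β) (x : Fin a → F)
    (u : Fin b → F) : ∃ e, g.val *ᵥ pure x u = pure x u + B₂ β u • pure (K' *ᵥ x) z + pure e β := by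
  obtain ⟨ξ, hξ⟩ := exists_dot_one hβ
  refine ⟨_, sub_eq_iff_eq_add'.mp (S.eq_pure hξ
    (q := g.val *ᵥ pure x u - (pure x u + B₂ β u • pure (K' *ᵥ x) z)) fun y w hw => ?_)⟩
  have h1 : polarBilin Q (g.val *ᵥ pure x u) (pure (K *ᵥ y) β) = polarBilin Q (pure x u) (pure (K *ᵥ y) β) := by
    conv_lhs => rw [← hfix (K *ᵥ y)]
    exact iso_polar hg _ _
  have h2 := iso_polar hg (pure x u) (pure y w)
  rw [hp y w hw, map_add, map_smul, h1, S.pol, S.pol] at h2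
  simp only [map_sub, map_add, map_smul, LinearMap.sub_apply, LinearMap.add_apply, LinearMap.smul_apply, S.pol, hK,
    smul_eq_mul] at h2 ⊢
  linear_combination h2 - (B₂ z w * B₁ x (K *ᵥ y)) * S.bl.s2.swap β u

/-- An occurring map plus its adjoint is scalar. -/
theorem Good.w_rel {β z : Fin b → F} (hβ : β ≠ 0) (hz : z ∉ F ∙ β) {K : Matrix (Fin a) (Fin a) F}
    (h : InW B₂ M β K z) : ∃ l : F, ∀ x y, B₁ (K *ᵥ x) y + B₁ x (K *ᵥ y) = l * B₁ x y := by
  obtain ⟨K', hK'⟩ := S.adjoint K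
  obtain ⟨d, hd, hd1⟩ := S.bl.s2.dual _ hz
  have hdβ : B₂ β d = 0 := S.bl.s2.zero_swap (hd β (Submodule.mem_span_singleton_self β))
  have hzd : B₂ z d = -1 := by rw [S.bl.s2.swap d z, hd1]
  obtain ⟨hz0, g₁, hg₁, f₁, p₁⟩ := h
  obtain ⟨-, g₂, hg₂, f₂, p₂⟩ := G.W0_one S (β := β) d hdβ
  have e₁ := S.wform (G.iso hg₁) hβ hz0 hK' f₁ p₁
  have e₂ := S.wform (G.iso hg₂) hβ hdβ (K' := 1) (by simp) f₂ p₂
  obtain ⟨β', hβ'⟩ := S.bl.s2.partner hβ
  set c := g₁ * g₂ * (g₂ * g₁)⁻¹ with hc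
  have hcM : c ∈ M := M.mul_mem (M.mul_mem hg₁ hg₂) (M.inv_mem (M.mul_mem hg₂ hg₁))
  have hcq : ∀ q, c.val *ᵥ (g₂.val *ᵥ (g₁.val *ᵥ q)) = g₁.val *ᵥ (g₂.val *ᵥ q) := fun q => by
    rw [hc, ← mulVec_mul g₂, ← mulVec_mul g₁, ← mulVec_mul, inv_mul_cancel_right]
  have hfix : ∀ x w, B₂ β w = 0 → c.val *ᵥ pure x w = pure x w := fun x w hw => by
    have h12 : g₁.val *ᵥ (g₂.val *ᵥ pure x w) = g₂.val *ᵥ (g₁.val *ᵥ pure x w) := by
      rw [p₁ x w hw, p₂ x w hw, Matrix.mulVec_add, Matrix.mulVec_smul, Matrix.mulVec_add, Matrix.mulVec_smul, f₁, f₂,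
        p₁ x w hw, p₂ x w hw]
      abel
    have h1 : ∀ p, c.val *ᵥ (g₂.val *ᵥ (g₁.val *ᵥ (((g₂ * g₁)⁻¹ : GL (Fin a × Fin b) F).val *ᵥ p))) =
        g₁.val *ᵥ (g₂.val *ᵥ (((g₂ * g₁)⁻¹ : GL (Fin a × Fin b) F).val *ᵥ p)) := fun p => hcq _
    have h3 : ((g₂ * g₁)⁻¹ : GL (Fin a × Fin b) F).val *ᵥ pure x w =
        pure x w - (B₂ z w • pure (K *ᵥ x) β + B₂ d w • pure x β) := by
      have h4 : (g₂ * g₁).val *ᵥ (pure x w - (B₂ z w • pure (K *ᵥ x) β + B₂ d w • pure x β)) = pure x w := by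
        simp only [mulVec_mul, Matrix.mulVec_sub, Matrix.mulVec_add, Matrix.mulVec_smul, p₁ x w hw, p₂ x w hw, f₁, f₂,
          Matrix.one_mulVec]
        abel
      conv_lhs => rw [← h4, mulVec_inv_mulVec]
    rw [hc, mulVec_mul, mulVec_mul, h3]
    simp only [Matrix.mulVec_sub, Matrix.mulVec_add, Matrix.mulVec_smul, p₁ x w hw, p₂ x w hw, f₁, f₂,
      Matrix.one_mulVec]
    abel
  obtain ⟨C, hC, halt⟩ := S.zform (G.iso hcM) hβ hfix
  obtain ⟨l, rfl⟩ := G.zscalar S hcM hβ hC halt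
  refine ⟨-l, fun x y => ?_⟩
  have key : pure (-(l • x)) β = pure (K *ᵥ x) β + pure (K' *ᵥ x) β := by
    obtain ⟨a₁, ha₁⟩ := e₁ x β'
    obtain ⟨a₂, ha₂⟩ := e₂ x β'
    obtain ⟨a₃, ha₃⟩ := e₂ (K' *ᵥ x) z
    obtain ⟨a₄, ha₄⟩ := e₁ x d
    have h1 : g₂.val *ᵥ pure (K' *ᵥ x) z = pure (K' *ᵥ x) z + B₂ d z • pure (K' *ᵥ x) β := by
      rw [p₂ _ _ hz0, Matrix.one_mulVec]
    have h2 : g₁.val *ᵥ pure x d = pure x d + B₂ z d • pure (K *ᵥ x) β := p₁ x d hdβ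
    have h3 := hcq (pure x β')
    rw [hC] at h3
    simp only [hβ', one_smul, Matrix.one_mulVec] at ha₁ ha₂
    simp only [ha₁, ha₂, Matrix.mulVec_add, h1, h2, f₁, f₂, map_add, map_smul, ctr_pure, row_dot, hβ', hz0, hdβ,
      S.bl.s2.self, one_smul, zero_smul, add_zero, Matrix.smul_mulVec, Matrix.one_mulVec, hzd, hd1] at h3
    rw [pure_neg_left]
    linear_combination (norm := module) -h3
  rw [← pure_add_left] at key
  have h5 := pure_left_cancel hβ key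
  have h6 := congrArg (B₁ · y) h5
  simp only [map_neg, map_add, map_smul, LinearMap.neg_apply, LinearMap.add_apply, LinearMap.smul_apply, hK', smul_eq_mul] at h6
  linear_combination -h6

end Cfsg.Agent.Lib.TensorSp
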