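import Cfsg.Agent.Lib.TensorSp.Unip

/-!
Without roots on pure lines the maps occurring in the unipotent radical are scalars.
-/

set_option autoImplicit false

namespace Cfsg.Agent.Lib.TensorSp

open Module Matrix QuadraticMap
open Cfsg.Agent.Lib.MaxSub (toVec toVec_dot)
open Cfsg.Agent.Lib.MaxSub.Orth (eichGL eichGL_mulVec iso_quad iso_polar toGL_mem_isometry)
open Cfsg.Agent.Lib.MaxSub.OrthSplit (InE)
open Cfsg.Agent.Lib.ThreeTransp.Tensor
open Cfsg.Agent.Lib.Geometry (quad_add quad_smul quad_polar_comm)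
open scoped MatrixGroups Matrix Kronecker

attribute [-simp] QuadraticMap.polarBilin_apply_apply

variable {a b : ℕ} {F : Type*} [Field F]

/-- `x ↦ B(v, x) w`. -/
def rk (B : LinearMap.BilinForm F (Fin a → F)) (w v : Fin a → F) : Matrix (Fin a) (Fin a) F :=
  Matrix.vecMulVec w (row B v)

theorem rk_mulVec (B : LinearMap.BilinForm F (Fin a → F)) (w v x : Fin a → F) : rk B w v *ᵥ x = B v x • w := by
  rw [rk, Matrix.vecMulVec_mulVec, row_dot, op_smul_eq_smul]

variable {Q : QuadraticForm F (Fin a × Fin b → F)} {B₁ : LinearMap.BilinForm F (Fin a → F)}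
  {B₂ : LinearMap.BilinForm F (Fin b → F)} (S : Sys Q B₁ B₂)
include S

omit S in
/-- The element attached to `K` at `z`. -/
def Shape (B₂ : LinearMap.BilinForm F (Fin b → F)) (e : GL (Fin a × Fin b) F) (β : Fin b → F)
    (K : Matrix (Fin a) (Fin a) F) (z : Fin b → F) : Prop :=
  ∀ x u, e.val *ᵥ pure x u = pure x u + B₂ z u • pure (K *ᵥ x) β - B₂ β u • pure (K *ᵥ x) z

variable {M : Subgroup (GL (Fin a × Fin b) F)} (G : Good S M)
include G

/-- An occurring map with exact isometries gives such an element in the group. -/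
theorem Good.exact {β z y : Fin b → F} (hβ : β ≠ 0) {K : Matrix (Fin a) (Fin a) F}
    (hKK : ∀ x, K *ᵥ (K *ᵥ x) = 0)
    (E : ∀ z, B₂ β z = 0 → ∃ e ∈ Cfsg.isometryGroup F ⇑Q, Shape B₂ e β K z)
    (h : InW B₂ M β K z) (hy : B₂ β y = 0) (hyz : B₂ y z ≠ 0) :
    ∃ d, d ∉ F ∙ β ∧ B₂ β d = 0 ∧ ∃ e ∈ M, Shape B₂ e β K d := by
  obtain ⟨hz, g, hg, hf, hp⟩ := h
  obtain ⟨e, he, hes⟩ := E z hz
  set d := B₂ y z • y with hd
  have hdβ : B₂ β d = 0 := by rw [hd, map_smul, hy, smul_zero]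
  refine ⟨d, fun hm => ?_, hdβ, ?_⟩
  · obtain ⟨c, hc⟩ := Submodule.mem_span_singleton.mp hm
    have h1 := congrArg (B₂ · z) hc
    simp only [hd, map_smul, LinearMap.smul_apply, hz, smul_zero, smul_eq_mul] at h1
    exact mul_ne_zero hyz hyz (by rw [← h1, mul_zero])
  obtain ⟨e', -, hes'⟩ := E d hdβ
  have hse : ∀ x u, e.val *ᵥ pure x u = pure x u + B₂ z u • pure (K *ᵥ x) β - B₂ β u • pure (K *ᵥ x) z := hes
  have hse' : ∀ x u, e'.val *ᵥ pure x u = pure x u + B₂ d u • pure (K *ᵥ x) β - B₂ β u • pure (K *ᵥ x) d := hes'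
  have hZ : ∀ x w, B₂ β w = 0 → ((e⁻¹ * g : GL (Fin a × Fin b) F)).val *ᵥ pure x w = pure x w := fun x w hw => by
    rw [mulVec_mul, hp x w hw]
    conv_rhs => rw [← mulVec_inv_mulVec e (pure x w), hes x w, hw, zero_smul, sub_zero]
  obtain ⟨C, hC, -⟩ := S.zform (Subgroup.mul_mem _ (Subgroup.inv_mem _ he) (G.iso hg)) hβ hZ
  have hgp : ∀ x u, g.val *ᵥ pure x u =
      pure x u + B₂ z u • pure (K *ᵥ x) β - B₂ β u • pure (K *ᵥ x) z + B₂ β u • pure (C *ᵥ x) β := fun x u => by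
    have h1 := hC.pure_eq x u
    rw [mulVec_mul] at h1
    have h2 := congrArg (e.val *ᵥ ·) h1
    simp only [mulVec_mulVec_inv, Matrix.mulVec_add, Matrix.mulVec_smul, hse, S.bl.s2.zero_swap hz, S.bl.s2.self,
      zero_smul, add_zero, sub_zero] at h2
    exact h2
  refine ⟨TB S y 1 * g * (TB S y 1)⁻¹ * g⁻¹,
    M.mul_mem (M.mul_mem (M.mul_mem (G.trB y 1) hg) (M.inv_mem (G.trB y 1))) (M.inv_mem hg), ?_⟩
  suffices h1 : e' * g * TB S y 1 = TB S y 1 * g by
    rw [← h1]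
    simpa using hes'
  refine Units.ext (eq_of_pure fun x u => ?_)
  have hhu : B₂ β (u + (1 * B₂ y u) • y) = B₂ β u := by rw [map_add, map_smul, hy, smul_zero, add_zero]
  rw [mulVec_mul, mulVec_mul, mulVec_mul, S.TB_pure, hgp, hgp, hhu]
  simp only [Matrix.mulVec_add, Matrix.mulVec_sub, Matrix.mulVec_smul, hse', S.TB_pure, hhu, hKK, pure_zero_left,
    smul_zero, add_zero, S.bl.s2.self, S.bl.s2.zero_swap hdβ, S.bl.s2.zero_swap hy, hy, hdβ, hz, mul_zero, zero_smul,
    sub_zero]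
  simp only [hd, one_mul, map_add, map_smul, LinearMap.smul_apply, smul_eq_mul, pure_add_right, pure_smul_right,
    S.bl.s2.self, S.bl.s2.swap y z]
  module

/-- A rank-one map gives a root. -/
theorem Good.not_rk_one {β : Fin b → F} (hβ : β ≠ 0) {v : Fin a → F} (hv : v ≠ 0) :
    ¬ W0 B₂ M β (rk B₁ v v) := fun h => by
  classical
  have hE : ∀ z, B₂ β z = 0 → ∀ (p : polarBilin Q (pure v β) (pure v (-z)) = 0),
      Shape B₂ (eichGL Q (pure v β) (pure v (-z)) (S.quad _ _) p) β (rk B₁ v v) z := fun z hz p x u => by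
    rw [eichGL_mulVec, S.quad, S.pol, S.pol, map_neg, S.bl.s1.swap v x, S.bl.s2.swap β u, S.bl.s2.swap z u, rk_mulVec,
      pure_smul_left, pure_smul_left, ← neg_one_smul F z, pure_smul_right]
    module
  have hpol : ∀ z, B₂ β z = 0 → polarBilin Q (pure v β) (pure v (-z)) = 0 := fun z hz => by
    rw [S.pol, S.bl.s1.self, zero_mul]
  obtain ⟨d₀, q₀, hs, hpq⟩ := S.bl.s2.pair_perp {β} (by have := S.h5; simp; omega)
  obtain ⟨hd₀, hq₀⟩ := hs β (by simp)
  obtain ⟨d, hd, hdβ, e, he, hes⟩ := G.exact S hβ (K := rk B₁ v v) (y := d₀) (z := q₀)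
    (fun x => by simp [rk_mulVec, Matrix.mulVec_smul, S.bl.s1.self])
    (fun z hz => ⟨_, toGL_mem_isometry Q _, hE z hz (hpol z hz)⟩) (h q₀ hq₀) hd₀ (by rw [hpq]; exact one_ne_zero)
  refine G.noW v β (-d) hv hβ (fun hm => hd (by simpa using Submodule.neg_mem _ hm)) (by rw [map_neg, hdβ, neg_zero])
    ⟨S.quad _ _, hpol d hdβ, ?_⟩
  convert he using 1
  exact Units.ext (eq_of_pure fun x u => by rw [hE d hdβ (hpol d hdβ), hes])

/-- A symmetric rank-two map on an isotropic plane gives a root. -/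
theorem Good.not_rk_two {β : Fin b → F} (hβ : β ≠ 0) {v w : Fin a → F} (hvw : B₁ v w = 0) (hv : v ≠ 0)
    (hw : w ∉ F ∙ v) : ¬ W0 B₂ M β (rk B₁ w v + rk B₁ v w) := fun h => by
  classical
  set K := rk B₁ w v + rk B₁ v w with hK
  have hwv := S.bl.s1.zero_swap hvw
  have hKv : ∀ x, K *ᵥ x = B₁ v x • w + B₁ w x • v := fun x => by rw [hK, Matrix.add_mulVec, rk_mulVec, rk_mulVec]
  obtain ⟨d₀, q₀, hs, hpq⟩ := S.bl.s2.pair_perp {β} (by have := S.h5; simp; omega)
  obtain ⟨hd₀, hq₀⟩ := hs β (by simp)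
  obtain ⟨y, hy, hyβ, g₁, hg₁, hgs⟩ := G.exact S hβ (K := K) (y := d₀) (z := q₀)
    (fun x => by
      simp [hKv, Matrix.mulVec_add, Matrix.mulVec_smul, S.bl.s1.self, hvw, hwv])
    (fun z hz => by
      have p1 : polarBilin Q (pure v β) (pure w (-z)) = 0 := by rw [S.pol, hvw, zero_mul]
      have p2 : polarBilin Q (pure w β) (pure v (-z)) = 0 := by rw [S.pol, hwv, zero_mul]
      refine ⟨eichGL Q (pure v β) (pure w (-z)) (S.quad _ _) p1 * eichGL Q (pure w β) (pure v (-z)) (S.quad _ _) p2,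
        Subgroup.mul_mem _ (toGL_mem_isometry Q _) (toGL_mem_isometry Q _), fun x u => ?_⟩
      rw [mulVec_mul, eichGL_mulVec, eichGL_mulVec, S.quad, S.quad]
      simp only [map_neg, map_add, map_sub, map_smul, LinearMap.add_apply, LinearMap.sub_apply, LinearMap.smul_apply,
        S.pol, hvw, hwv, S.bl.s1.self, S.bl.s2.self, mul_zero, zero_mul, smul_zero, zero_smul, add_zero, sub_zero,
        S.bl.s1.swap v x, S.bl.s1.swap w x, S.bl.s2.swap β u, S.bl.s2.swap z u, hKv, pure_add_left, pure_smul_left,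
        ← neg_one_smul F z, pure_smul_right, smul_eq_mul, neg_zero]
      module)
    (h q₀ hq₀) hd₀ (by rw [hpq]; exact one_ne_zero)
  -- auxiliary vectors
  have hyβ' := S.bl.s2.zero_swap hyβ
  obtain ⟨v', hv', hv'v⟩ := S.bl.s1.dual (F ∙ w) (x := v) (fun hm => by
    obtain ⟨c, hc⟩ := Submodule.mem_span_singleton.mp hm
    refine hw (Submodule.mem_span_singleton.mpr ⟨c⁻¹, ?_⟩)
    rw [← hc, inv_smul_smul₀]
    exact fun e => hv (by rw [← hc, e, zero_smul]))
  have hv'w : B₁ v' w = 0 := hv' w (Submodule.mem_span_singleton_self w)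
  obtain ⟨β₀, hβ₀, hβ₀β⟩ := S.bl.s2.dual (F ∙ y) (x := β) (fun hm => by
    obtain ⟨c, hc⟩ := Submodule.mem_span_singleton.mp hm
    refine hy (Submodule.mem_span_singleton.mpr ⟨c⁻¹, ?_⟩)
    rw [← hc, inv_smul_smul₀]
    exact fun e => hβ (by rw [← hc, e, zero_smul]))
  set β' := -β₀ with hβ'
  have hββ' : B₂ β β' = 1 := by rw [hβ', map_neg, S.bl.s2.swap β₀ β, hβ₀β, neg_neg]
  have hyβ'' : B₂ y β' = 0 := by
    rw [hβ', map_neg, S.bl.s2.zero_swap (hβ₀ y (Submodule.mem_span_singleton_self y)), neg_zero]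
  -- a vector orthogonal to `β`, `β'`, `y`, independent of `y`
  obtain ⟨r₀, hr₀β, hr₀β', hr₀y, hr₀n⟩ : ∃ r₀, B₂ β r₀ = 0 ∧ B₂ β' r₀ = 0 ∧ B₂ y r₀ = 0 ∧ r₀ ∉ F ∙ y := by
    let T : (Fin b → F) →ₗ[F] (Fin 3 → F) := LinearMap.pi ![B₂ β, B₂ β', B₂ y]
    by_contra hno
    push Not at hno
    have h1 := T.finrank_range_add_finrank_ker
    have h2 : finrank F (LinearMap.range T) ≤ 3 := (Submodule.finrank_le _).trans (by simp)
    have h3 : finrank F (LinearMap.ker T) ≤ 1 :=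
      (Submodule.finrank_mono (show LinearMap.ker T ≤ F ∙ y from fun q hq => by
        have hq' := LinearMap.mem_ker.mp hq
        exact hno q (congrFun hq' 0) (congrFun hq' 1) (congrFun hq' 2))).trans
        (finrank_span_singleton (fun e => hy (by rw [e]; exact Submodule.zero_mem _))).le
    rw [Module.finrank_fin_fun] at h1
    have := S.h5
    omega
  set w₂ := y + r₀ with hw₂
  have hw₂β : B₂ β w₂ = 0 := by rw [hw₂, map_add, hyβ, hr₀β, add_zero]
  have hw₂β' : B₂ β' w₂ = 0 := by rw [hw₂, map_add, S.bl.s2.zero_swap hyβ'', hr₀β', add_zero]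
  have hyw₂ : B₂ y w₂ = 0 := by rw [hw₂, map_add, S.bl.s2.self, hr₀y, add_zero]
  -- moving the first element
  obtain ⟨g₂, hg₂, hgs₂⟩ : ∃ g₂ ∈ M, ∀ x u, g₂.val *ᵥ pure x u = pure x u +
      B₂ w₂ u • pure (B₁ v' x • w + B₁ w x • v') β' - B₂ β' u • pure (B₁ v' x • w + B₁ w x • v') w₂ := by
    obtain ⟨hA, lA, iA, eA1, eA2⟩ : ∃ hA : (Fin a → F) →ₗ[F] (Fin a → F), Lft Q pureL.flip M hA ∧
        (∀ p q, B₁ (hA p) (hA q) = B₁ p q) ∧ hA v = v' ∧ hA w = w := by
      refine ⟨_, G.toGrp.tr_A S (v' - v) (B₁ (v' - v) v)⁻¹, S.bl.s1.tr_isom _ _, ?_, ?_⟩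
      · rw [tr_apply, inv_mul_cancel₀, one_smul, add_sub_cancel]
        rw [map_sub, LinearMap.sub_apply, hv'v, S.bl.s1.self, sub_zero]
        exact one_ne_zero
      · rw [tr_apply]; simp [hv'w, hvw]
    -- three steps in the second factor
    obtain ⟨hB, lB, iB, eB1, eB2⟩ : ∃ hB : (Fin b → F) →ₗ[F] (Fin b → F), Lft Q pureL M hB ∧
        (∀ p q, B₂ (hB p) (hB q) = B₂ p q) ∧ hB β = β' ∧ hB y = w₂ := by
      have mv : ∀ u u', B₂ (u' - u) u ≠ 0 → ∃ h : (Fin b → F) →ₗ[F] (Fin b → F), Lft Q pureL M h ∧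
          (∀ p q, B₂ (h p) (h q) = B₂ p q) ∧ h u = u' ∧ ∀ q, B₂ (u' - u) q = 0 → h q = q := fun u u' hne =>
        ⟨_, G.toGrp.tr_B S (u' - u) (B₂ (u' - u) u)⁻¹, S.bl.s2.tr_isom _ _,
          by rw [tr_apply, inv_mul_cancel₀ hne, one_smul, add_sub_cancel],
          fun q hq => by rw [tr_apply, hq, mul_zero, zero_smul, add_zero]⟩
      obtain ⟨k₁, l₁, i₁, e₁, f₁⟩ := mv β β' (by
        rw [map_sub, LinearMap.sub_apply, S.bl.s2.swap β β', hββ', S.bl.s2.self, sub_zero]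
        exact neg_ne_zero.mpr one_ne_zero)
      obtain ⟨p', hp'y, hp'β, hp'β', hp'w⟩ : ∃ p', B₂ p' y = 1 ∧ B₂ p' β = 0 ∧ B₂ p' β' = 0 ∧ B₂ p' w₂ = 1 := by
        obtain ⟨t, ht, ht1⟩ := S.bl.s2.dual (Submodule.span F {β, β', r₀}) (x := y) (fun hm => by
          obtain ⟨c, m₁, hm₁, hc⟩ := Submodule.mem_span_insert.mp hm
          obtain ⟨c', c'', rfl⟩ := Submodule.mem_span_pair.mp hm₁
          have h1 := congrArg (B₂ β) hc
          simp only [map_add, map_smul, S.bl.s2.self, hββ', hr₀β, hyβ, smul_zero, smul_eq_mul, mul_one, mul_zero,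
            add_zero, zero_add] at h1
          have h2 := congrArg (B₂ β') hc
          simp only [map_add, map_smul, S.bl.s2.self, S.bl.s2.swap β β', hββ', hr₀β', S.bl.s2.zero_swap hyβ'', smul_eq_mul,
            mul_neg, mul_one, mul_zero, add_zero, zero_add] at h2
          rw [← h1, zero_smul, zero_add, neg_eq_zero.mp h2.symm, zero_smul, zero_add] at hc
          rcases eq_or_ne c'' 0 with h0 | h0
          · exact hy (by rw [hc, h0, zero_smul]; exact Submodule.zero_mem _)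
          · exact hr₀n (Submodule.mem_span_singleton.mpr ⟨c''⁻¹, by rw [hc, inv_smul_smul₀ h0]⟩))
        exact ⟨t, ht1, ht β (Submodule.subset_span (by simp)), ht β' (Submodule.subset_span (by simp)),
          by rw [hw₂, map_add, ht1, ht r₀ (Submodule.subset_span (by simp)), add_zero]⟩
      obtain ⟨k₃, l₃, i₃, e₃, f₃⟩ := mv y p' (by
        rw [map_sub, LinearMap.sub_apply, hp'y, S.bl.s2.self, sub_zero]; exact one_ne_zero)
      obtain ⟨k₄, l₄, i₄, e₄, f₄⟩ := mv p' w₂ (by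
        rw [map_sub, LinearMap.sub_apply, S.bl.s2.swap p' w₂, hp'w, S.bl.s2.self, sub_zero]
        exact neg_ne_zero.mpr one_ne_zero)
      refine ⟨k₄ ∘ₗ k₃ ∘ₗ k₁, l₄.comp (l₃.comp l₁), fun r s => by simp [i₄, i₃, i₁], ?_, ?_⟩
      · rw [LinearMap.comp_apply, LinearMap.comp_apply, e₁, f₃ β' (by
          rw [map_sub, LinearMap.sub_apply, hp'β', hyβ'', sub_zero]), f₄ β' (by
          rw [map_sub, LinearMap.sub_apply, hp'β', S.bl.s2.zero_swap hw₂β', sub_zero])]
      · rw [LinearMap.comp_apply, LinearMap.comp_apply, f₁ y (by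
          rw [map_sub, LinearMap.sub_apply, S.bl.s2.zero_swap hyβ'', hyβ, sub_zero]), e₃, e₄]
    obtain ⟨ga, hga, -, hgae⟩ := lA
    obtain ⟨gb, hgb, -, hgbe⟩ := lB
    have hk : ∀ x u, (gb * ga).val *ᵥ pure x u = pure (hA x) (hB u) := fun x u => by
      rw [mulVec_mul]
      show gb.val *ᵥ (ga.val *ᵥ pureL.flip u x) = _
      rw [hgae, LinearMap.flip_apply]
      exact hgbe _ _
    refine ⟨(gb * ga) * g₁ * (gb * ga)⁻¹, M.mul_mem (M.mul_mem (M.mul_mem hgb hga) hg₁) (M.inv_mem (M.mul_mem hgb hga)),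
      fun x u => ?_⟩
    obtain ⟨x, rfl⟩ := S.bl.s1.surj iA x
    obtain ⟨u, rfl⟩ := S.bl.s2.surj iB u
    rw [mulVec_mul, ← hk, mulVec_inv_mulVec, mulVec_mul, hgs, Matrix.mulVec_sub, Matrix.mulVec_add,
      Matrix.mulVec_smul, Matrix.mulVec_smul, hk, hk, hk, hKv, map_add, map_smul, map_smul, eA1, eA2, eB1, eB2,
      ← eA1, ← eA2, ← eB1, ← eB2, iA, iA, iB, iB, eA1, eA2, eB1, eB2]
  have hgs' : ∀ x u, g₁.val *ᵥ pure x u = pure x u + B₂ y u • pure (K *ᵥ x) β - B₂ β u • pure (K *ᵥ x) y := hgs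
  -- the commutator is a root
  have hq : polarBilin Q (pure w (-y)) (pure w w₂) = 0 := by rw [S.pol, S.bl.s1.self, zero_mul]
  refine G.noW w (-y) w₂ (fun e => hw (by rw [e]; exact Submodule.zero_mem _))
    (neg_ne_zero.mpr fun e => hy (by rw [e]; exact Submodule.zero_mem _)) (fun hm => ?_)
    (by rw [map_neg, LinearMap.neg_apply, hyw₂, neg_zero]) ⟨S.quad _ _, hq, ?_⟩
  · obtain ⟨c, hc⟩ := Submodule.mem_span_singleton.mp hm
    refine hr₀n (Submodule.mem_span_singleton.mpr ⟨-c - 1, ?_⟩)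
    rw [smul_neg, ← neg_smul] at hc
    rw [sub_smul, one_smul, hc, hw₂, add_sub_cancel_left]
  convert M.mul_mem (M.mul_mem hg₁ hg₂) (M.inv_mem (M.mul_mem hg₂ hg₁)) using 1
  rw [eq_mul_inv_iff_mul_eq]
  refine Units.ext (eq_of_pure fun x u => ?_)
  rw [mulVec_mul, mulVec_mul, mulVec_mul, hgs', hgs₂]
  simp only [hKv, pure_add_left, pure_smul_left, Matrix.mulVec_add, Matrix.mulVec_sub, Matrix.mulVec_smul, hgs', hgs₂,
    eichGL_mulVec, S.quad, map_add, map_sub, map_smul, LinearMap.add_apply, LinearMap.sub_apply, LinearMap.smul_apply,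
    smul_eq_mul, ← neg_one_smul F y, pure_smul_right, S.pol, S.bl.s1.self, S.bl.s2.self, hvw, hwv,
    hv'w, S.bl.s1.zero_swap hv'w, hv'v, S.bl.s1.swap v' v, hyβ, hyβ', hββ', S.bl.s2.swap β β', hyβ'',
    S.bl.s2.zero_swap hyβ'', hw₂β, S.bl.s2.zero_swap hw₂β, hw₂β', S.bl.s2.zero_swap hw₂β', hyw₂,
    S.bl.s2.zero_swap hyw₂, S.bl.s1.swap w x, S.bl.s1.swap v x, S.bl.s1.swap v' x, S.bl.s2.swap y u,
    S.bl.s2.swap w₂ u, mul_zero, zero_mul, smul_zero, zero_smul, add_zero, zero_add, sub_zero, mul_one, one_mul,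
    mul_neg, neg_neg, pure_zero_left]
  module

/-- An occurring map is scalar. -/
theorem Good.wscalar {β z : Fin b → F} (hβ : β ≠ 0) (hz : z ∉ F ∙ β) {K : Matrix (Fin a) (Fin a) F}
    (h : InW B₂ M β K z) : ∃ l : F, K = l • 1 := by
  classical
  refine eq_smul_one fun v => ?_
  by_contra hns
  push Not at hns
  have hv : v ≠ 0 := fun e => hns 0 (by simp [e])
  obtain ⟨l, hl⟩ := G.w_rel S hβ hz h
  have hW := G.spreadW S h hz
  rcases Nat.lt_or_ge 2 a with ha | ha
  · -- a rank-two map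
    set u := K *ᵥ v with hu
    set μ := B₁ v u with hμ
    obtain ⟨w, hw1, hw2, hw3⟩ : ∃ w, B₁ v w = 0 ∧ B₁ u w ≠ 0 ∧ w ∉ F ∙ v := by
      have hu' : u ∉ F ∙ v := fun hm => by
        obtain ⟨c, hc⟩ := Submodule.mem_span_singleton.mp hm
        exact hns c hc.symm
      obtain ⟨w₀, hw₀, hw₀u⟩ := S.bl.s1.dual _ hu'
      have hvw₀ : B₁ v w₀ = 0 := S.bl.s1.zero_swap (hw₀ v (Submodule.mem_span_singleton_self v))
      have huw₀ : B₁ u w₀ = -1 := by rw [S.bl.s1.swap w₀ u, hw₀u]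
      by_cases hm : w₀ ∈ F ∙ v
      · obtain ⟨r, hrv, hru, hr0⟩ : ∃ r, B₁ v r = 0 ∧ B₁ u r = 0 ∧ r ≠ 0 := by
          let T : (Fin a → F) →ₗ[F] F × F := (B₁ v).prod (B₁ u)
          obtain ⟨r, hr, hr0⟩ := Submodule.exists_mem_ne_zero_of_ne_bot (p := LinearMap.ker T) (fun e => by
            have h1 := T.finrank_range_add_finrank_ker
            have h2 : finrank F (LinearMap.range T) ≤ 2 := (Submodule.finrank_le _).trans (by simp)
            rw [e, finrank_bot, Module.finrank_fin_fun] at h1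
            omega)
          have := LinearMap.mem_ker.mp hr
          simp only [T, LinearMap.prod_apply, Function.prod_apply, Prod.mk_eq_zero] at this
          exact ⟨r, this.1, this.2, hr0⟩
        refine ⟨w₀ + r, by rw [map_add, hvw₀, hrv, add_zero], by
          rw [map_add, huw₀, hru, add_zero]; exact neg_ne_zero.mpr one_ne_zero, fun hm' => hr0 ?_⟩
        have h1 := Submodule.sub_mem _ hm' hm
        rw [add_sub_cancel_left] at h1
        obtain ⟨c, rfl⟩ := Submodule.mem_span_singleton.mp h1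
        obtain ⟨c₀, hc₀⟩ := Submodule.mem_span_singleton.mp hm
        rw [← hc₀, map_smul, smul_eq_mul] at huw₀
        rw [map_smul, smul_eq_mul, mul_eq_zero] at hru
        rcases hru with hc | hc
        · rw [hc, zero_smul]
        · rw [hc, mul_zero] at huw₀
          exact absurd huw₀.symm (neg_ne_zero.mpr one_ne_zero)
      · exact ⟨w₀, hvw₀, by rw [huw₀]; exact neg_ne_zero.mpr one_ne_zero, hm⟩
    refine G.not_rk_two S hβ hw1 hv hw3 ?_
    have h1 := ((hW.delta S G v 1).delta S G w 1).smul (B₁ u w)⁻¹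
    convert h1 using 1
    refine Cfsg.Agent.Lib.MaxSub.eq_of_mulVec_eq fun x => ?_
    have hvK : ∀ y, B₁ v (K *ᵥ y) = l * B₁ v y - B₁ u y := fun y => by rw [← hl v y]; ring
    have hwv := S.bl.s1.zero_swap hw1
    have hC : ∀ y, ((sv S.bl.s1 v 1).val * K * ((sv S.bl.s1 v 1)⁻¹ : GL (Fin a) F).val - K) *ᵥ y =
        (l * B₁ v y - B₁ u y) • v - B₁ v y • u - (B₁ v y * μ) • v := fun y => by
      rw [delta, hvK, hμ, hu]; simp only [one_mul]
    rw [Matrix.smul_mulVec, delta, hC, hC, Matrix.add_mulVec, rk_mulVec, rk_mulVec]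
    simp only [map_sub, map_smul, hwv, hw1, S.bl.s1.swap u w, smul_eq_mul, mul_zero, sub_zero, zero_smul, zero_sub,
      one_mul, zero_mul]
    match_scalars <;> field_simp <;> ring
  · -- a rank-one map
    have hq : 2 < Nat.card F := S.hex.resolve_left (by omega)
    have hμ : B₁ v (K *ᵥ v) ≠ 0 := by
      intro e
      obtain ⟨d, hd, hd1⟩ := S.bl.s1.dual (F ∙ v) (x := K *ᵥ v) (fun hm => by
        obtain ⟨c, hc⟩ := Submodule.mem_span_singleton.mp hm
        exact hns c hc.symm)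
      have hli : finrank F (Submodule.span F {v, K *ᵥ v}) = 2 := by
        rw [show ({v, K *ᵥ v} : Set (Fin a → F)) = Set.range ![v, K *ᵥ v] by simp [Matrix.range_cons, Matrix.range_empty, Set.pair_comm]]
        rw [finrank_span_eq_card (linearIndependent_fin2.mpr ⟨by
          intro e'; exact hns 0 (by simpa using e'), fun c hc => by
          rcases eq_or_ne c 0 with rfl | hc0
          · exact hv (by simpa using hc.symm)
          · exact hns c⁻¹ ((eq_inv_smul_iff₀ hc0).mpr (by simpa using hc))⟩), Fintype.card_fin]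
      have htop : Submodule.span F {v, K *ᵥ v} = ⊤ := Submodule.eq_top_of_finrank_eq (by
        rw [hli, Module.finrank_fin_fun]; have := S.ha; omega)
      refine hv (S.bl.s1.nd.1 v fun x => ?_)
      obtain ⟨c, c', rfl⟩ := Submodule.mem_span_pair.mp (htop ▸ Submodule.mem_top : x ∈ Submodule.span F {v, K *ᵥ v})
      rw [map_add, map_smul, map_smul, S.bl.s1.self, e, smul_zero, smul_zero, add_zero]
    haveI : Finite F := Nat.finite_of_card_ne_zero (by omega)
    haveI := Fintype.ofFinite F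
    obtain ⟨c, hc0, hc1⟩ : ∃ c : F, c ≠ 0 ∧ c ≠ 1 := by
      by_contra hc
      push Not at hc
      have : Finset.univ ⊆ ({0, 1} : Finset F) := fun x _ => by
        rcases eq_or_ne x 0 with rfl | hx
        · simp
        · simp [hc x hx]
      have h1 := Finset.card_le_card this
      have h2 := Finset.card_le_two (a := (0 : F)) (b := 1)
      rw [Finset.card_univ, ← Nat.card_eq_fintype_card] at h1
      omega
    have hne : (c - c * c) * B₁ v (K *ᵥ v) ≠ 0 := by
      refine mul_ne_zero (fun e => ?_) hμ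
      rcases mul_eq_zero.mp (show c * (1 - c) = 0 by linear_combination e) with h | h
      · exact hc0 h
      · exact hc1 (sub_eq_zero.mp h).symm
    refine G.not_rk_one S hβ hv ?_
    have h1 := ((hW.delta S G v c).sub S ((hW.delta S G v 1).smul c)).smul ((c - c * c) * B₁ v (K *ᵥ v))⁻¹
    convert h1 using 1
    refine Cfsg.Agent.Lib.MaxSub.eq_of_mulVec_eq fun x => ?_
    rw [Matrix.smul_mulVec, Matrix.sub_mulVec, Matrix.smul_mulVec, delta, delta, rk_mulVec]
    match_scalars <;> field_simp <;> ring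

/-- A unipotent element is `1 ⊗` something on `A ⊗ β⊥`. -/
theorem Good.unip {g : GL (Fin a × Fin b) F} (hg : g ∈ M) {β : Fin b → F} (hβ : β ≠ 0)
    (hfix : ∀ x, g.val *ᵥ pure x β = pure x β)
    (hmod : ∀ x w, B₂ β w = 0 → ∃ y, g.val *ᵥ pure x w = pure x w + pure y β) :
    ∃ ψ : Fin b → F, ψ ⬝ᵥ β = 0 ∧ ∀ p, ctr (row B₂ β) p = 0 → g.val *ᵥ p = p + pure (ctr ψ p) β := by
  classical
  obtain ⟨ξ, hξ⟩ := exists_dot_one hβ
  obtain ⟨β', hβ'⟩ := S.bl.s2.partner hβ
  let D : (Fin a × Fin b → F) →ₗ[F] (Fin a × Fin b → F) := Matrix.mulVecLin g.val - LinearMap.id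
  have hD : ∀ q, D q = g.val *ᵥ q - q := fun q => rfl
  let L : (Fin b → F) → Matrix (Fin a) (Fin a) F := fun w => LinearMap.toMatrix' ((ctr ξ).comp (D.comp (left w)))
  have hL : ∀ x w, B₂ β w = 0 → g.val *ᵥ pure x w = pure x w + pure (L w *ᵥ x) β := fun x w hw => by
    obtain ⟨y, hy⟩ := hmod x w hw
    have h1 : L w *ᵥ x = y := by
      rw [← Matrix.toLin'_apply, Matrix.toLin'_toMatrix']
      show ctr ξ (g.val *ᵥ pure x w - pure x w) = y
      rw [hy, add_sub_cancel_left, ctr_pure, hξ, one_smul]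
    rw [hy, h1]
  let i₀ : Fin a := ⟨0, by have := S.ha; omega⟩
  let ψl : (Fin b → F) →ₗ[F] F := (LinearMap.proj i₀).comp ((ctr ξ).comp (D.comp ((right (Pi.single i₀ 1)).comp
    (LinearMap.id - (B₂ β).smulRight β'))))
  have key : ∀ x w, B₂ β w = 0 → g.val *ᵥ pure x w = pure x w + ψl w • pure x β := by
    intro x w hw
    suffices h : ∃ l : F, L w = l • 1 by
      obtain ⟨l, hl⟩ := h
      have hψ : ψl w = l := by
        show ctr ξ (D (pure (Pi.single i₀ 1) (w - B₂ β w • β'))) i₀ = l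
        rw [hw, zero_smul, sub_zero, hD, hL _ _ hw, add_sub_cancel_left, ctr_pure, hξ, one_smul, hl]
        simp
      rw [hL x w hw, hψ, hl, Matrix.smul_mulVec, Matrix.one_mulVec, pure_smul_left]
    by_cases hwβ : w ∈ F ∙ β
    · obtain ⟨c, rfl⟩ := Submodule.mem_span_singleton.mp hwβ
      refine ⟨0, Cfsg.Agent.Lib.MaxSub.eq_of_mulVec_eq fun y => pure_left_cancel hβ ?_⟩
      have h2 := hL y (c • β) hw
      rw [pure_smul_right, Matrix.mulVec_smul, hfix, left_eq_add] at h2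
      rw [h2, zero_smul, Matrix.zero_mulVec, pure_zero_left]
    suffices hWL : ∃ l : F, -L w = l • 1 by
      obtain ⟨l, hl⟩ := hWL
      exact ⟨-l, by rw [neg_smul, ← hl, neg_neg]⟩
    refine G.wscalar S hβ hwβ (K := -L w) ⟨hw, TB S w 1 * g * (TB S w 1)⁻¹ * g⁻¹,
      M.mul_mem (M.mul_mem (M.mul_mem (G.trB w 1) hg) (M.inv_mem (G.trB w 1))) (M.inv_mem hg), fun y => ?_,
      fun y r hr => ?_⟩
    · have hgi : (g⁻¹ : GL (Fin a × Fin b) F).val *ᵥ pure y β = pure y β := by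
        conv_lhs => rw [← hfix y, mulVec_inv_mulVec]
      rw [mulVec_mul, mulVec_mul, mulVec_mul, hgi, S.TB_inv_pure, S.bl.s2.zero_swap hw, mul_zero, zero_smul,
        sub_zero, hfix, S.TB_pure, S.bl.s2.zero_swap hw, mul_zero, zero_smul, add_zero]
    · have hgi : (g⁻¹ : GL (Fin a × Fin b) F).val *ᵥ pure y r = pure y r - pure (L r *ᵥ y) β := by
        have h1 : g.val *ᵥ (pure y r - pure (L r *ᵥ y) β) = pure y r := by
          rw [Matrix.mulVec_sub, hL y r hr, hfix, add_sub_cancel_right]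
        conv_lhs => rw [← h1, mulVec_inv_mulVec]
      have hwr : B₂ β (r - (1 * B₂ w r) • w) = 0 := by rw [map_sub, map_smul, hr, hw, smul_zero, sub_zero]
      rw [mulVec_mul, mulVec_mul, mulVec_mul, hgi, Matrix.mulVec_sub, S.TB_inv_pure, S.TB_inv_pure,
        S.bl.s2.zero_swap hw, mul_zero, zero_smul, sub_zero, Matrix.mulVec_sub, hfix, pure_sub_right, pure_smul_right]
      simp only [hL y r hr, hL y w hw, hfix, Matrix.mulVec_sub, Matrix.mulVec_add, Matrix.mulVec_smul, S.TB_pure, S.bl.s2.self,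
        S.bl.s2.zero_swap hw, mul_zero, zero_smul, add_zero, one_mul, pure_add_right, pure_smul_right,
        Matrix.neg_mulVec, pure_neg_left]
      module
  refine ⟨toVec ψl, ?_, fun p hp => ?_⟩
  · rw [toVec_dot]
    show ctr ξ (D (pure (Pi.single i₀ 1) (β - B₂ β β • β'))) i₀ = 0
    rw [S.bl.s2.self, zero_smul, sub_zero, hD, hfix, sub_self, map_zero, Pi.zero_apply]
  · exact lin_perp (f := Matrix.mulVecLin g.val) (g := LinearMap.id + (left β).comp (ctr (toVec ψl))) hβ'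
      (fun x w hw => by
        rw [Matrix.mulVecLin_apply, key x w hw, LinearMap.add_apply, LinearMap.id_apply]
        show _ = _ + pure (ctr (toVec ψl) (pure x w)) β
        rw [ctr_pure, toVec_dot, pure_smul_left]) hp

end Cfsg.Agent.Lib.TensorSp
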